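import Groth.Agent.LimitMod.Modules
import Groth.Agent.PropsBasic.LocFree
import Groth.Agent.LocCohBase.HomExtend
import Groth.Prelude.Def_FlatMod2

/-!
# Finite locally free modules along limits
-/

universe u

open CategoryTheory Limits AlgebraicGeometry Opposite TopologicalSpace

noncomputable section

set_option backward.isDefEq.respectTransparency.types false

namespace Groth.LimitMod

variable {X Y Z : Scheme.{u}}

theorem nonempty_pullback_freeMod (f : Y ⟶ X) (n : ℕ) :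
    Nonempty ((Scheme.Modules.pullback f).obj (FlatMod.freeMod X n) ≅ FlatMod.freeMod Y n) := by
  have := Groth.PicAux.isIso_pullUnit f
  exact ⟨PreservesCoproduct.iso _ _ ≪≫ Sigma.mapIso fun _ => asIso (Groth.PicAux.pullUnit f)⟩

theorem isFinLocFree_freeMod (X : Scheme.{u}) (n : ℕ) : FlatMod.IsFinLocFree (FlatMod.freeMod X n) :=
  fun _ => ⟨⊤, n, trivial, ⟨(Scheme.Modules.restrictFunctorIsoPullback (⊤ : X.Opens).ι).app _ ≪≫
    (nonempty_pullback_freeMod (⊤ : X.Opens).ι n).some⟩⟩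

theorem isFP_freeMod (X : Scheme.{u}) (n : ℕ) : CohB1.IsFP (FlatMod.freeMod X n) :=
  Groth.PropsBasic.LocFree.isFP_of_isFinLocFree _ (isFinLocFree_freeMod X n)

instance (X : Scheme.{u}) (n : ℕ) : (FlatMod.freeMod X n).IsQuasicoherent :=
  Groth.LocCohBase.HomExtend.isQCoh_freeMod n

/-- The inverse image of `F` along `q` is free of rank `n`. -/
def Triv (F : X.Modules) (q : Y ⟶ X) (n : ℕ) : Prop :=
  Nonempty ((Scheme.Modules.pullback q).obj F ≅ FlatMod.freeMod Y n)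

theorem Triv.comp {F : X.Modules} {q : Y ⟶ X} {n : ℕ} (h : Triv F q n) {q' : Z ⟶ X} (r : Z ⟶ Y)
    (e : r ≫ q = q') : Triv F q' n := by
  obtain ⟨i⟩ := h
  obtain ⟨f⟩ := nonempty_pullback_freeMod r n
  exact ⟨((Scheme.Modules.pullbackComp r q ≪≫ Scheme.Modules.pullbackCongr e).app F).symm ≪≫
    (Scheme.Modules.pullback r).mapIso i ≪≫ f⟩

theorem restrict_iff_triv (F : X.Modules) (q : Y ⟶ X) (U : Y.Opens) (n : ℕ) :
    Nonempty (((Scheme.Modules.pullback q).obj F).restrict U.ι ≅ FlatMod.freeMod (↑U) n) ↔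
      Triv F (U.ι ≫ q) n := by
  let e := (Scheme.Modules.restrictFunctorIsoPullback U.ι).app ((Scheme.Modules.pullback q).obj F) ≪≫
    (Scheme.Modules.pullbackComp U.ι q).app F
  exact ⟨fun ⟨i⟩ => ⟨e.symm ≪≫ i⟩, fun ⟨i⟩ => ⟨e ≪≫ i⟩⟩

/-- Local form of being finite locally free with ranks in `S`. -/
def LocTriv (F : X.Modules) (q : Y ⟶ X) (S : Set ℕ) : Prop :=
  ∀ y : Y, ∃ (U : Y.Opens) (n : ℕ), y ∈ U ∧ n ∈ S ∧ Triv F (U.ι ≫ q) n

theorem isFinLocFree_pullback_iff (F : X.Modules) (q : Y ⟶ X) :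
    FlatMod.IsFinLocFree ((Scheme.Modules.pullback q).obj F) ↔ LocTriv F q Set.univ := by
  constructor
  · intro h y
    obtain ⟨U, n, hy, hU⟩ := h y
    exact ⟨U, n, hy, trivial, (restrict_iff_triv F q U n).1 hU⟩
  · intro h y
    obtain ⟨U, n, hy, -, hU⟩ := h y
    exact ⟨U, n, hy, (restrict_iff_triv F q U n).2 hU⟩

theorem isFinLocFreeOfRank_pullback_iff (F : X.Modules) (q : Y ⟶ X) (n : ℕ) :
    FlatMod.IsFinLocFreeOfRank n ((Scheme.Modules.pullback q).obj F) ↔ LocTriv F q {n} := by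
  constructor
  · intro h y
    obtain ⟨U, hy, hU⟩ := h y
    exact ⟨U, n, hy, rfl, (restrict_iff_triv F q U n).1 hU⟩
  · intro h y
    obtain ⟨U, m, hy, rfl, hU⟩ := h y
    exact ⟨U, hy, (restrict_iff_triv F q U m).2 hU⟩

theorem LocTriv.comp {F : X.Modules} {q : Y ⟶ X} {S : Set ℕ} (h : LocTriv F q S) {q' : Z ⟶ X}
    (r : Z ⟶ Y) (e : r ≫ q = q') : LocTriv F q' S := by
  intro z
  obtain ⟨U, n, hz, hn, hU⟩ := h (r z)
  exact ⟨r ⁻¹ᵁ U, n, hz, hn, hU.comp (r ∣_ U) (by rw [← e, morphismRestrict_ι_assoc])⟩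

variable {I : Type u} [Category.{u} I] [IsCofiltered I] {D : I ⥤ Scheme.{u}} {c : Cone D}
  (hc : IsLimit c) [∀ (i j : I) (f : i ⟶ j), IsAffineHom (D.map f)]

include hc in
/-- A module of finite presentation free on the limit of an affine open is free on it at a stage. -/
theorem exists_triv_stage {i j : I} (φ : j ⟶ i) {F : (D.obj i).Modules} [F.IsQuasicoherent]
    (hF : CohB1.IsFP F) {V : (D.obj j).Opens} (hV : IsAffineOpen V) {n : ℕ}
    (h : Triv F ((c.π.app j ⁻¹ᵁ V).ι ≫ c.π.app i) n) :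
    ∃ k : Over j, Triv F ((D.map k.hom ⁻¹ᵁ V).ι ≫ D.map (k.hom ≫ φ)) n := by
  have : ∀ {a b : I} (f : a ⟶ b), IsAffineHom (D.map f) := fun {_ _} _ => inferInstance
  have : ∀ (a b : Over j) (f : a ⟶ b), IsAffineHom ((opensDiagram D j V).map f) :=
    fun a b f => inferInstance
  let k₀ : Over j := Over.mk (𝟙 j)
  have : IsAffine ((opensDiagram D j V).obj k₀) := hV.preimage (D.map k₀.hom)
  let p : (opensDiagram D j V).obj k₀ ⟶ D.obj i :=
    (D.map k₀.hom ⁻¹ᵁ V).ι ≫ D.map (k₀.hom ≫ φ)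
  let F' := (Scheme.Modules.pullback p).obj F
  have hπ : (opensCone D c j V).π.app k₀ ≫ p = (c.π.app j ⁻¹ᵁ V).ι ≫ c.π.app i := by
    change Scheme.Hom.resLE _ _ _ _ ≫ ((D.map k₀.hom ⁻¹ᵁ V).ι ≫ D.map (k₀.hom ≫ φ)) = _
    rw [Scheme.Hom.resLE_comp_ι_assoc, c.w]
  obtain ⟨e⟩ := h
  obtain ⟨e₁⟩ := nonempty_pullback_freeMod ((opensCone D c j V).π.app k₀) n
  obtain ⟨k, ψ, ⟨e₂⟩⟩ := exists_iso_stage (isLimitOpensCone D c hc j V) (F := F')
    (G := FlatMod.freeMod _ n) (Groth.QCohMod.isFP_pullback _ F hF)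
    (isFP_freeMod _ n)
    ((Scheme.Modules.pullbackComp _ _ ≪≫ Scheme.Modules.pullbackCongr hπ).app F ≪≫ e ≪≫ e₁.symm)
  obtain ⟨e₃⟩ := nonempty_pullback_freeMod ((opensDiagram D j V).map ψ) n
  refine ⟨k, ?_⟩
  have hψ : (opensDiagram D j V).map ψ ≫ p = (D.map k.hom ⁻¹ᵁ V).ι ≫ D.map (k.hom ≫ φ) := by
    change Scheme.Hom.resLE _ _ _ _ ≫ ((D.map k₀.hom ⁻¹ᵁ V).ι ≫ D.map (k₀.hom ≫ φ)) = _
    rw [Scheme.Hom.resLE_comp_ι_assoc, ← D.map_comp, ← Category.assoc, Over.w ψ]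
  exact ⟨((Scheme.Modules.pullbackComp _ _ ≪≫ Scheme.Modules.pullbackCongr hψ).app F).symm ≪≫ e₂ ≪≫ e₃⟩

include hc in
/-- A module of finite presentation locally free on the limit is so at a stage. -/
theorem exists_locTriv_stage {i : I} [CompactSpace (D.obj i)] {F : (D.obj i).Modules}
    [F.IsQuasicoherent] (hF : CohB1.IsFP F) {S : Set ℕ} (h : LocTriv F (c.π.app i) S) :
    ∃ (j : I) (φ : j ⟶ i), LocTriv F (D.map φ) S := by
  classical
  have : ∀ {a b : I} (f : a ⟶ b), IsAffineHom (D.map f) := fun {_ _} _ => inferInstance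
  have := isAffineHom_π_app _ _ hc i
  have : CompactSpace c.pt := QuasiCompact.compactSpace_of_compactSpace (c.π.app i)
  choose U n hxU hnS hU using h
  have hsmall : ∀ x : c.pt, ∃ (j : I) (φ : j ⟶ i) (V : (D.obj j).Opens), IsAffineOpen V ∧
      x ∈ c.π.app j ⁻¹ᵁ V ∧ c.π.app j ⁻¹ᵁ V ≤ U x := fun x => by
    obtain ⟨_, ⟨_, ⟨j, V, hV, rfl⟩, rfl⟩, hxV, hle⟩ :=
      (isBasis_preimage_isAffineOpen D c hc).exists_subset_of_mem_open (hxU x) (U x).2
    refine ⟨IsCofiltered.min j i, IsCofiltered.minToRight j i,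
      D.map (IsCofiltered.minToLeft j i) ⁻¹ᵁ V, hV.preimage _, ?_, ?_⟩
    · rwa [← Scheme.Hom.comp_preimage, c.w]
    · rwa [← Scheme.Hom.comp_preimage, c.w]
  choose j φ V hV hxV hVU using hsmall
  obtain ⟨J, hJ⟩ := isCompact_univ.elim_finite_subcover
    (fun x => ((c.π.app (j x) ⁻¹ᵁ V x : c.pt.Opens) : Set c.pt)) (fun x => (c.π.app (j x) ⁻¹ᵁ V x).2)
    (fun x _ => Set.mem_iUnion.2 ⟨x, hxV x⟩)
  choose k hk using fun x : J => exists_triv_stage hc (φ x.1) hF (hV x.1)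
    ((hU x.1).comp (c.pt.homOfLE (hVU x.1)) (by simp))
  obtain ⟨m, g, q, hq⟩ := Groth.PicAux.LimitInv.exists_common (fun x : J => (k x).left)
    (fun x => (k x).hom ≫ φ x.1)
  let W : J → (D.obj m).Opens := fun x => D.map (q x ≫ (k x).hom) ⁻¹ᵁ V x.1
  have hWt : ∀ x : J, Triv F ((W x).ι ≫ D.map g) (n x.1) := fun x =>
    (hk x).comp ((D.map (q x)).resLE (D.map (k x).hom ⁻¹ᵁ V x.1) (W x)
      (by rw [← Scheme.Hom.comp_preimage, ← D.map_comp])) (by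
      rw [Scheme.Hom.resLE_comp_ι_assoc, ← D.map_comp, hq x])
  have : ∀ a : Over i, CompactSpace ((Over.forget i ⋙ D).obj a) := fun a =>
    compactSpace_stage (D := D) a.hom
  obtain ⟨l, r, hr⟩ := exists_map_eq_top (Over.forget i ⋙ D) (c.whisker (Over.forget i))
    ((Functor.Initial.isLimitWhiskerEquiv (Over.forget i) c).symm hc) (i := Over.mk g)
    (⨆ x, W x) (eq_top_iff.2 fun y _ => by
      obtain ⟨x, hx, hy⟩ := Set.mem_iUnion₂.1 (hJ (Set.mem_univ y))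
      change c.π.app m y ∈ iSup W
      refine Opens.mem_iSup.2 ⟨⟨x, hx⟩, ?_⟩
      have he : c.π.app m ≫ D.map (q ⟨x, hx⟩ ≫ (k ⟨x, hx⟩).hom) = c.π.app (j x) := c.w _
      change (c.π.app m ≫ D.map (q ⟨x, hx⟩ ≫ (k ⟨x, hx⟩).hom)) y ∈ V x
      rw [he]
      exact hy)
  refine ⟨l.left, r.left ≫ g, fun y => ?_⟩
  obtain ⟨x, hx⟩ := Opens.mem_iSup.1 (hr.ge (Set.mem_univ y) : D.map r.left y ∈ iSup W)
  exact ⟨D.map r.left ⁻¹ᵁ W x, n x.1, hx, hnS x.1, (hWt x).comp (D.map r.left ∣_ W x)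
    (by rw [morphismRestrict_ι_assoc, ← D.map_comp])⟩

end Groth.LimitMod
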