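import Groth.Agent.LimitMod.Descend
import Groth.Agent.SpectralTopology.DescendFP
import Groth.Agent.SpectralTopology.NoethSystem
import Groth.Agent.FlatMorOne.FlatStageGlobal

/-!
# Models of modules of finite presentation, flatness included
-/

universe u

open CategoryTheory Limits AlgebraicGeometry Opposite TopologicalSpace

noncomputable section

set_option backward.isDefEq.respectTransparency.types false

namespace Groth.LimitMod

open Groth.SpectralTopology Groth.FlatMorOne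

theorem isCofiltered_fgSub (A : CommRingCat.{u}) : IsCofiltered (FGSub A)ᵒᵖ := by
  have : IsDirectedOrder (FGSub A) :=
    ⟨fun s t => ⟨⟨s.1 ⊔ t.1, s.2.sup t.2⟩, (le_sup_left : s.1 ≤ s.1 ⊔ t.1),
      (le_sup_right : t.1 ≤ s.1 ⊔ t.1)⟩⟩
  have : Nonempty (FGSub A) := ⟨⟨⊥, Subalgebra.fg_bot⟩⟩
  have : IsFiltered (FGSub A) := isFiltered_of_directed_le_nonempty _
  exact isCofiltered_op_of_isFiltered _

variable {I : Type u} [Category.{u} I] [IsCofiltered I] {D : I ⥤ Scheme.{u}} {c : Cone D}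
  (hc : IsLimit c) [∀ (i j : I) (f : i ⟶ j), IsAffineHom (D.map f)]

include hc in
/-- A module of finite presentation on a limit comes from a stage over a given one. -/
theorem exists_fp_stage (i : I) [CompactSpace (D.obj i)] [QuasiSeparatedSpace (D.obj i)]
    (F : c.pt.Modules) [F.IsQuasicoherent] (hF : CohB1.IsFP F) :
    ∃ (j : I) (_ : j ⟶ i) (Fj : (D.obj j).Modules) (_ : Fj.IsQuasicoherent),
      CohB1.IsFP Fj ∧ Nonempty ((Scheme.Modules.pullback (c.π.app j)).obj Fj ≅ F) := by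
  have : ∀ {a b : I} (f : a ⟶ b), IsAffineHom (D.map f) := fun {_ _} _ => inferInstance
  have := isAffineHom_π_app _ _ hc i
  obtain ⟨E, hqE, p, hE, hp⟩ := exists_fp_epi (c.π.app i) F
    (Groth.PropsBasic.LocFree.isFT_of_isFP F hF)
  obtain ⟨j, φ, Fj, hFj, pj, e, h1, -, -⟩ := exists_stage_quotient hc hE hF p
  exact ⟨j, φ, Fj, hFj, h1, ⟨e⟩⟩

variable {X : Scheme.{u}} {f : X ⟶ c.pt}

omit [IsCofiltered I] in
theorem isFlatOverAt_comp_iso {Z Y T : Scheme.{u}} (p : Z ⟶ Y) (g : Y ⟶ T) [IsIso g] {G : Z.Modules}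
    [G.IsQuasicoherent] (z : Z) (h : FlatMod.IsFlatOverAt p G z) :
    FlatMod.IsFlatOverAt (p ≫ g) G z :=
  (isFlatOverAt_congr (p ≫ g) ((Scheme.Modules.pullbackId Z).app G) z).mp
    (isFlatOverAt_baseChange (g' := 𝟙 Z) (f' := p ≫ g) (f := p) (g := inv g)
      (IsPullback.of_horiz_isIso ⟨by simp⟩) G z h)

omit [IsCofiltered I] [∀ (i j : I) (f : i ⟶ j), IsAffineHom (D.map f)] in
/-- A cartesian square over a later stage gives a new model. -/
theorem exists_stageModel_of_square {i j : I} (M : StageModel f i) (φ : j ⟶ i) {Xj Yj : Scheme.{u}}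
    {fj : Xj ⟶ Yj} {gj : Yj ⟶ D.obj j} {pY : Yj ⟶ D.obj i} {pX : Xj ⟶ M.obj}
    (hY : IsPullback pY gj (𝟙 (D.obj i)) (D.map φ)) (hX : IsPullback pX fj M.hom pY)
    (F : M.obj.Modules) [F.IsQuasicoherent] {G : X.Modules}
    (e : (Scheme.Modules.pullback M.map).obj F ≅ G) :
    ∃ (N : StageModel f j) (ι : N.obj ≅ Xj) (_ : N.hom = ι.hom ≫ fj ≫ gj),
      (∀ v : X ⟶ Xj, v ≫ pX = M.map → v ≫ fj ≫ gj = f ≫ c.π.app j → N.map ≫ ι.hom = v) ∧
      Nonempty ((Scheme.Modules.pullback N.map).obj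
        ((Scheme.Modules.pullback (ι.hom ≫ pX)).obj F) ≅ G) := by
  have hXj : IsPullback pX (fj ≫ gj) M.hom (D.map φ) := by
    simpa using hX.paste_vert hY
  have h1 := MorphismProperty.of_isPullback (P := @LocallyOfFinitePresentation) hXj M.lfp
  have h2 := MorphismProperty.of_isPullback (P := @QuasiCompact) hXj M.qc
  have h3 := MorphismProperty.of_isPullback (P := @QuasiSeparated) hXj M.qs
  let v₀ : X ⟶ Xj := hXj.lift M.map (f ≫ c.π.app j) (by rw [Category.assoc, c.w, M.sq.w])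
  let N : StageModel f j :=
    { obj := Xj, hom := fj ≫ gj, map := v₀
      sq := IsPullback.of_right (by rw [hXj.lift_fst, c.w]; exact M.sq) (hXj.lift_snd _ _ _) hXj }
  refine ⟨N, Iso.refl _, (Category.id_comp _).symm, fun v hv hv' => ?_, ⟨?_⟩⟩
  · exact (Category.comp_id _).trans (hXj.hom_ext ((hXj.lift_fst _ _ _).trans hv.symm)
      ((hXj.lift_snd _ _ _).trans hv'.symm))
  · exact (Scheme.Modules.pullbackComp v₀ ((Iso.refl Xj).hom ≫ pX) ≪≫ Scheme.Modules.pullbackCongr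
      (by rw [Iso.refl_hom, Category.id_comp]; exact hXj.lift_fst _ _ _)).app F ≪≫ e

include hc in
/-- A scheme and a module of finite presentation over a limit of affine schemes come from a stage. -/
theorem exists_module_model [∀ i, IsAffine (D.obj i)] [LocallyOfFinitePresentation f] [QuasiCompact f]
    [QuasiSeparated f] (F : X.Modules) [F.IsQuasicoherent] (hF : CohB1.IsFP F) :
    ∃ (i : I) (M : StageModel f i) (F₀ : M.obj.Modules) (_ : F₀.IsQuasicoherent),
      CohB1.IsFP F₀ ∧ Nonempty ((Scheme.Modules.pullback M.map).obj F₀ ≅ F) := by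
  have : ∀ {a b : I} (m : a ⟶ b), IsAffineHom (D.map m) := fun {_ _} _ => inferInstance
  obtain ⟨i, ⟨M⟩⟩ := exists_stageModel hc f
  let D' := Groth.Limits.pullbackDiagram D i M.hom
  have hC := Groth.Limits.isLimitPullbackCone D i M.hom hc
  let e := M.sq.flip.isoPullback
  let k₀ : Over i := Over.mk (𝟙 i)
  let F' : (Groth.Limits.pullbackCone D i M.hom c).pt.Modules := (Scheme.Modules.pullback e.inv).obj F
  have : F'.IsQuasicoherent := inferInstanceAs ((Scheme.Modules.pullback e.inv).obj F).IsQuasicoherent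
  obtain ⟨k, -, F₀, hq, hfp, ⟨a⟩⟩ := exists_fp_stage hC k₀ F'
    (Groth.QCohMod.isFP_pullback _ F hF)
  have he : e.hom ≫ (Groth.Limits.pullbackCone D i M.hom c).π.app k = (M.pull k.hom).map :=
    StageModel.isoPullback_π M k
  refine ⟨k.left, M.pull k.hom, F₀, hq, hfp, ⟨?_⟩⟩
  exact ((Scheme.Modules.pullbackComp e.hom _ ≪≫ Scheme.Modules.pullbackCongr he).app F₀).symm ≪≫
    (Scheme.Modules.pullback e.hom).mapIso a ≪≫
      ((Scheme.Modules.pullbackComp e.hom e.inv ≪≫ Scheme.Modules.pullbackCongr e.hom_inv_id ≪≫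
        Scheme.Modules.pullbackId X).app F)

include hc in
/-- Flatness at a point comes from a stage. -/
theorem exists_flatAt_model [∀ i, IsAffine (D.obj i)] [LocallyOfFinitePresentation f] [QuasiCompact f]
    [QuasiSeparated f] (F : X.Modules) [F.IsQuasicoherent] (hF : CohB1.IsFP F) (x : X)
    (hx : FlatMod.IsFlatOverAt f F x) :
    ∃ (i : I) (M : StageModel f i) (F₀ : M.obj.Modules) (_ : F₀.IsQuasicoherent),
      CohB1.IsFP F₀ ∧ Nonempty ((Scheme.Modules.pullback M.map).obj F₀ ≅ F) ∧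
        FlatMod.IsFlatOverAt M.hom F₀ (M.map x) := by
  obtain ⟨i, M, F₀, hq, hfp, ⟨a⟩⟩ := exists_module_model hc (f := f) F hF
  have key : ∀ {P T : Scheme.{u}} (p : P ⟶ T) (q : P ⟶ M.obj) (w : P),
      GoodAt p ((Scheme.Modules.pullback q).map (kernel.ι (𝟙 F₀))) w ↔
        FlatMod.IsFlatOverAt p ((Scheme.Modules.pullback q).obj F₀) w := fun p q w =>
    goodAt_kernel_id_iff p ((Scheme.Modules.pullback q).map_isZero (isZero_kernel_of_mono _)) _ w
  have hY : IsPullback (c.π.app i) (𝟙 c.pt) (𝟙 (D.obj i)) (c.π.app i) :=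
    IsPullback.id_vert _
  obtain ⟨j, φ, Xi, Yi, fi, gi, pY, pX, vY, vX, hYi, hXi, hvY, hvYg, hvX, hvXf, hgood⟩ :=
    exists_stage_goodAt hc M.hom (𝟙 (D.obj i)) hfp (isFP_kernel_id F₀) (kernel.ι (𝟙 F₀)) hY M.sq x
      ((key f M.map x).mpr ((isFlatOverAt_congr f a x).mpr hx))
  obtain ⟨N, ι, hι, hv, ⟨e⟩⟩ := exists_stageModel_of_square M φ hYi hXi F₀ a
  have hvι : N.map ≫ ι.hom = vX := hv vX hvX (by
    rw [reassoc_of% hvXf, hvYg, ← Category.assoc f (𝟙 c.pt), Category.comp_id])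
  refine ⟨j, N, _, inferInstance, Groth.QCohMod.isFP_pullback _ F₀ hfp, ⟨e⟩, ?_⟩
  have : IsIso gi := (MorphismProperty.isomorphisms.iff gi).1
    (MorphismProperty.of_isPullback hYi (MorphismProperty.isomorphisms.infer_property _))
  have hflat : FlatMod.IsFlatOverAt (fi ≫ gi) ((Scheme.Modules.pullback pX).obj F₀) (ι.hom (N.map x)) := by
    rw [← Scheme.Hom.comp_apply, hvι]
    exact isFlatOverAt_comp_iso fi gi _ ((key fi pX (vX x)).mp hgood)
  have H : IsPullback ι.hom N.hom (fi ≫ gi) (𝟙 (D.obj j)) :=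
    IsPullback.of_horiz_isIso ⟨hι.symm.trans (Category.comp_id N.hom).symm⟩
  exact isFlatOverAt_of_square F₀ H rfl (N.map x) hflat

include hc in
/-- Flatness comes from a stage. -/
theorem exists_flat_model [∀ i, IsAffine (D.obj i)] [LocallyOfFinitePresentation f] [QuasiCompact f]
    [QuasiSeparated f] (F : X.Modules) [F.IsQuasicoherent] (hF : CohB1.IsFP F)
    (hflat : FlatMod.IsFlatOver f F) :
    ∃ (i : I) (M : StageModel f i) (F₀ : M.obj.Modules) (_ : F₀.IsQuasicoherent),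
      CohB1.IsFP F₀ ∧ Nonempty ((Scheme.Modules.pullback M.map).obj F₀ ≅ F) ∧
        FlatMod.IsFlatOver M.hom F₀ := by
  obtain ⟨i, M, F₀, hq, hfp, ⟨a⟩⟩ := exists_module_model hc (f := f) F hF
  have : LocallyOfFinitePresentation (M.hom ≫ 𝟙 (D.obj i)) := by rw [Category.comp_id]; infer_instance
  have : QuasiCompact (M.hom ≫ 𝟙 (D.obj i)) := by rw [Category.comp_id]; infer_instance
  have hY : IsPullback (c.π.app i) (𝟙 c.pt) (𝟙 (D.obj i)) (c.π.app i) :=
    IsPullback.id_vert _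
  obtain ⟨j, φ, hj⟩ := exists_stage_isFlatOver M.hom (𝟙 (D.obj i)) hc F₀ hfp hY M.sq
    (fun z => (isFlatOverAt_congr f a z).mpr (hflat z))
  have hYi := IsPullback.of_hasPullback (𝟙 (D.obj i)) (D.map φ)
  have hXi := isPullback_stageHom M.hom (𝟙 (D.obj i)) φ
  obtain ⟨N, ι, hι, -, ⟨e⟩⟩ := exists_stageModel_of_square M φ hYi hXi F₀ a
  refine ⟨j, N, _, inferInstance, Groth.QCohMod.isFP_pullback _ F₀ hfp, ⟨e⟩, fun z => ?_⟩
  have : IsIso (pullback.snd (𝟙 (D.obj i)) (D.map φ)) := inferInstance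
  have H : IsPullback ι.hom N.hom (stageHom M.hom (𝟙 (D.obj i)) φ ≫ pullback.snd _ _)
      (𝟙 (D.obj j)) :=
    IsPullback.of_horiz_isIso ⟨hι.symm.trans (Category.comp_id N.hom).symm⟩
  exact isFlatOverAt_of_square F₀ H rfl z (isFlatOverAt_comp_iso _ _ _ (hj _))

end Groth.LimitMod
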