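import Groth.Agent.LimitMod.ProperFlatModel
import Groth.Agent.Inter.EulerFibre

/-!
# Semicontinuity and constancy for fibres without Noetherian hypotheses
-/

universe u

open CategoryTheory Limits AlgebraicGeometry Opposite TopologicalSpace

noncomputable section

namespace Groth.LimitMod

open Groth.CohBase Groth.CohBase.CxRank Groth.FlatCxBase

/-- Upper semicontinuity of Betti numbers over a locally Noetherian base. -/
theorem isOpen_fiberRank_lt {X S : Scheme.{u}} (f : X ⟶ S) [IsProper f] [IsLocallyNoetherian S]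
    (M : X.Modules) (hM : Coh.IsCoh M) (hfl : FlatMod.IsFlatOver f M) (p n : ℕ) :
    IsOpen {y : S | CohIII.fiberRank f M p y < n} := by
  rw [isOpen_iff_mem_nhds]
  intro y₀ hy₀'
  obtain ⟨V, hV, hy₀, -⟩ :=
    exists_isAffineOpen_mem_and_subset (x := y₀) (U := (⊤ : S.Opens)) trivial
  have : IsNoetherianRing Γ(S, V) := IsLocallyNoetherian.component_noetherian ⟨V, hV⟩
  obtain ⟨L, hL⟩ := exists_isModel f M hV hM hfl
  have := hL.finite
  have := hL.flat
  let x : V → PrimeSpectrum Γ(S, V) := fun y => hV.primeIdealOf y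
  have hxc : Continuous x := hV.isoSpec.hom.continuous
  have hfp : ∀ N : Type u, ∀ [AddCommGroup N] [Module Γ(S, V) N] [Module.Finite Γ(S, V) N],
      Module.FinitePresentation Γ(S, V) N := fun N => Module.finitePresentation_of_finite _ _
  have hX : IsLocallyConstant (fdim (A := Γ(S, V)) (L.X ((p : ℤ) + 1))) := by
    have := hfp (L.X ((p : ℤ) + 1))
    exact isLocallyConstant_fdim _
  have hev : ∀ᶠ y : V in nhds ⟨y₀, hy₀⟩, CohIII.fiberRank f M p y.1 < n := by
    filter_upwards [hxc.continuousAt.eventually (eventually_fdim_le (Qc L (p : ℤ)) (x ⟨y₀, hy₀⟩)),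
      hxc.continuousAt.eventually (eventually_fdim_le (Qc L ((p : ℤ) + 1)) (x ⟨y₀, hy₀⟩)),
      hxc.continuousAt.eventually (hX.eventually_eq (x ⟨y₀, hy₀⟩))] with y h1 h2 h3
    have e1 := Groth.Inter.fiberRank_add hV hL p y.1 y.2
    have e2 := Groth.Inter.fiberRank_add hV hL p y₀ hy₀
    simp only [Set.mem_ofPred_eq] at hy₀'
    simp only [x, Subtype.coe_eta] at h1 h2 h3 e1
    omega
  rw [← mem_interior_iff_mem_nhds, mem_interior]
  obtain ⟨U, hU, hUo, hy⟩ := eventually_nhds_iff.1 hev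
  exact ⟨Subtype.val '' U, fun z ⟨w, hw, hwz⟩ => hwz ▸ hU w hw,
    V.isOpen.isOpenMap_subtype_val _ hUo, ⟨_, hy, rfl⟩⟩

/-- Upper semicontinuity of Betti numbers. -/
theorem isOpen_betti_lt {X S : Scheme.{u}} (f : X ⟶ S) [IsProper f] [LocallyOfFinitePresentation f]
    (F : X.Modules) (hF : CohB1.IsFP F) (hflat : FlatMod.IsFlatOver f F) (p n : ℕ) :
    IsOpen {s : S | PerfAux.betti f F s p < n} := by
  rw [isOpen_iff_mem_nhds]
  intro s₀ hs
  obtain ⟨V, hs₀, S₀, _, X₀, f₀, _, F₀, h, hc, hfl, hcont, heq⟩ := exists_betti_model f F hF hflat s₀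
  have hopen : IsOpen (h ⁻¹' {y : S₀ | PerfAux.betti f₀ F₀ y p < n}) :=
    (isOpen_fiberRank_lt f₀ F₀ hc hfl p n).preimage hcont
  refine Filter.mem_of_superset ((V.isOpen.isOpenMap_subtype_val _ hopen).mem_nhds
    ⟨⟨s₀, hs₀⟩, ?_, rfl⟩) ?_
  · simpa [Set.mem_preimage, ← heq ⟨s₀, hs₀⟩ p] using hs
  · rintro _ ⟨y, hy, rfl⟩
    simpa [Set.mem_preimage, ← heq y p] using hy

/-- Local constancy of the Euler characteristic of the fibres. -/
theorem isLocallyConstant_eulerChar {X S : Scheme.{u}} (f : X ⟶ S) [IsProper f]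
    [LocallyOfFinitePresentation f] (F : X.Modules) (hF : CohB1.IsFP F)
    (hflat : FlatMod.IsFlatOver f F) :
    IsLocallyConstant (fun s : S => PerfAux.eulerChar f F s) := by
  rw [IsLocallyConstant.iff_exists_open]
  intro s₀
  obtain ⟨V, hs₀, S₀, _, X₀, f₀, _, F₀, h, hc, hfl, hcont, heq⟩ := exists_betti_model f F hF hflat s₀
  have hEu : IsLocallyConstant (fun y : S₀ => PerfAux.eulerChar f₀ F₀ y) :=
    Groth.Inter.isLocallyConstant_euler_fiber f₀ F₀ hc hfl
  obtain ⟨U, hU, hyU, hconst⟩ := (hEu.comp_continuous hcont).exists_open ⟨s₀, hs₀⟩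
  have key : ∀ y : V, PerfAux.eulerChar f F y = PerfAux.eulerChar f₀ F₀ (h y) := fun y =>
    finsum_congr fun p => by rw [heq y p]
  refine ⟨Subtype.val '' U, V.isOpen.isOpenMap_subtype_val _ hU, ⟨_, hyU, rfl⟩, ?_⟩
  rintro _ ⟨y, hy, rfl⟩
  exact (key y).trans ((hconst _ hy).trans (key ⟨s₀, hs₀⟩).symm)

end Groth.LimitMod
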