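import Groth.Agent.LimitMod.FlatModel
import Groth.Agent.Limits.ProperFibreModel
import Groth.Agent.CohTwo.FieldExtension
import Groth.Agent.CohBase.FibreBC
import Groth.Agent.FlatStrata.FibreModels
import Groth.Prelude.Def_PerfAux

/-!
# Noetherian models of proper flat families of modules
-/

universe u

open CategoryTheory Limits AlgebraicGeometry Opposite TopologicalSpace

noncomputable section

set_option backward.isDefEq.respectTransparency.types false

namespace Groth.LimitMod

open Groth.SpectralTopology Groth.FlatMorOne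

variable {I : Type u} [Category.{u} I] [IsCofiltered I] {D : I ⥤ Scheme.{u}} {c : Cone D}
  (hc : IsLimit c) [∀ (i j : I) (f : i ⟶ j), IsAffineHom (D.map f)] {X : Scheme.{u}} {f : X ⟶ c.pt}

include hc in
/-- A proper scheme with a flat module of finite presentation over a limit of affine schemes comes
from a stage with a proper structure map. -/
theorem exists_proper_flat_stage [∀ i, IsAffine (D.obj i)] [IsProper f]
    [LocallyOfFinitePresentation f] (F : X.Modules) [F.IsQuasicoherent] (hF : CohB1.IsFP F)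
    (hflat : FlatMod.IsFlatOver f F) :
    ∃ (i : I) (M : StageModel f i) (F₀ : M.obj.Modules) (_ : F₀.IsQuasicoherent),
      CohB1.IsFP F₀ ∧ IsProper M.hom ∧ Nonempty ((Scheme.Modules.pullback M.map).obj F₀ ≅ F) ∧
        FlatMod.IsFlatOver M.hom F₀ := by
  obtain ⟨i, N₀, F₀, hq, hfp, ⟨a⟩, hfl⟩ := exists_flat_model hc (f := f) F hF hflat
  have : IsProper (pullback.snd N₀.hom (c.π.app i)) := by
    rw [← N₀.sq.isoPullback_inv_snd]; infer_instance
  have : ∀ (a b : Over i) (m : a ⟶ b), IsAffineHom ((Over.forget i ⋙ D).map m) := fun _ _ m =>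
    inferInstanceAs (IsAffineHom (D.map m.left))
  have : ∀ a : Over i, CompactSpace ↥((Over.forget i ⋙ D).obj a) := fun a =>
    inferInstanceAs (CompactSpace ↥(D.obj a.left))
  have : ∀ a : Over i, QuasiSeparatedSpace ↥((Over.forget i ⋙ D).obj a) := fun a =>
    inferInstanceAs (QuasiSeparatedSpace ↥(D.obj a.left))
  obtain ⟨j, hj⟩ := Groth.Limits.exists_isProper_bcTrans
    ((Functor.Initial.isLimitWhiskerEquiv (Over.forget i) c).symm hc) (Groth.Limits.overTrans D i)
    (c.π.app i) (fun j => c.w j.hom) N₀.hom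
  have hjp : IsProper (pullback.snd N₀.hom (D.map j.hom)) := hj
  refine ⟨j.left, N₀.pull j.hom, (Scheme.Modules.pullback (N₀.proj j.hom)).obj F₀, inferInstance,
    Groth.QCohMod.isFP_pullback _ F₀ hfp, ?_, ⟨?_⟩,
    isFlatOver_baseChange (IsPullback.of_hasPullback (D.map j.hom) N₀.hom).flip F₀ hfl⟩
  · show IsProper (pullback.fst (D.map j.hom) N₀.hom)
    rw [← pullbackSymmetry_hom_comp_snd]; infer_instance
  · exact (Scheme.Modules.pullbackComp (N₀.pull j.hom).map (N₀.proj j.hom) ≪≫
      Scheme.Modules.pullbackCongr (N₀.map_proj j.hom)).app F₀ ≪≫ a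

end Groth.LimitMod

namespace Groth.LimitMod

open Groth.SpectralTopology

/-- Betti numbers of the fibres of a proper flat family of finitely presented modules are pulled
back from a family over a Noetherian base, locally on the base. -/
theorem exists_betti_model {X S : Scheme.{u}} (f : X ⟶ S) [IsProper f] [LocallyOfFinitePresentation f]
    (F : X.Modules) (hF : CohB1.IsFP F) (hflat : FlatMod.IsFlatOver f F) (s₀ : S) :
    ∃ (V : S.Opens) (_ : s₀ ∈ V) (S₀ : Scheme.{u}) (_ : IsLocallyNoetherian S₀) (X₀ : Scheme.{u})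
      (f₀ : X₀ ⟶ S₀) (_ : IsProper f₀) (F₀ : X₀.Modules) (h : V → S₀), Coh.IsCoh F₀ ∧
        FlatMod.IsFlatOver f₀ F₀ ∧ Continuous h ∧
        ∀ (y : V) (p : ℕ), PerfAux.betti f F y p = PerfAux.betti f₀ F₀ (h y) p := by
  have : F.IsQuasicoherent := by
    have := hF
    infer_instance
  obtain ⟨V, hV, hs₀, -⟩ :=
    exists_isAffineOpen_mem_and_subset (x := s₀) (U := (⊤ : S.Opens)) trivial
  let A := CommRingCat.of Γ(S, V)
  have hsq := Groth.CohBase.isPullback_preimageToSpec f hV
  let f' : ((f ⁻¹ᵁ V : X.Opens) : Scheme.{u}) ⟶ (fgCone A).pt :=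
    Groth.CohBase.preimageToSpec f (V := V)
  have : IsProper f' := MorphismProperty.of_isPullback hsq ‹IsProper f›
  have : LocallyOfFinitePresentation f' :=
    MorphismProperty.of_isPullback hsq ‹LocallyOfFinitePresentation f›
  have : ∀ i, IsAffine ((fgSchemes A).obj i) := fun i => inferInstanceAs (IsAffine (Spec _))
  have := isCofiltered_fgSub A
  let F' := (Scheme.Modules.pullback (f ⁻¹ᵁ V).ι).obj F
  have hflat' : FlatMod.IsFlatOver f' F' := Groth.FlatMorOne.isFlatOver_baseChange hsq F hflat
  obtain ⟨i, M, F₀, hq, hfp, hp, ⟨e⟩, hfl⟩ := exists_proper_flat_stage (isLimitFgCone A)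
    (f := f') F' (Groth.QCohMod.isFP_pullback _ F hF) hflat'
  have : IsNoetherian ((fgSchemes A).obj i) := inferInstance
  refine ⟨V, hs₀, (fgSchemes A).obj i, inferInstance, M.obj, M.hom, hp, F₀,
    fun y => (fgCone A).π.app i (hV.isoSpec.hom y),
    ⟨hq, Groth.PropsBasic.LocFree.isFT_of_isFP F₀ hfp⟩, hfl,
    ((fgCone A).π.app i).continuous.comp hV.isoSpec.hom.continuous, fun y p => ?_⟩
  calc PerfAux.betti f F y p = PerfAux.betti f F (hV.fromSpec (hV.isoSpec.hom y)) p :=
        congrArg (fun z => PerfAux.betti f F z p) (hV.fromSpec_primeIdealOf y).symm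
    _ = PerfAux.betti f' F' (hV.isoSpec.hom y) p :=
        (Groth.CohTwo.betti_baseChange hsq F _ p).symm
    _ = PerfAux.betti f' ((Scheme.Modules.pullback M.map).obj F₀) (hV.isoSpec.hom y) p :=
        Groth.FlatStrata.betti_congr f' e.symm _ p
    _ = _ := Groth.CohTwo.betti_baseChange M.sq F₀ _ p

end Groth.LimitMod
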