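import Groth.Agent.LimitMod.SectionsLimit
import Groth.Agent.QCohMod.FPPresentable

/-!
# `π_*π^*G` is the filtered colimit of the `(D φ)_*(D φ)^*G`
-/

universe u

open CategoryTheory Limits AlgebraicGeometry Opposite TopologicalSpace TensorProduct

noncomputable section

set_option backward.isDefEq.respectTransparency.types false

namespace Groth.LimitMod

open Groth.PicAux Groth.PicAux.LimitInv
open Groth.DescentBase (pullback_hom_ext)

section

variable {X Y Z : Scheme.{u}} (G : X.Modules)

/-- `transUnit` through the composite inverse image. -/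
theorem transUnit_eq (a : Y ⟶ X) (b : Z ⟶ X) (q : Z ⟶ Y) (h : q ≫ a = b) :
    transUnit G a b q h =
      (Scheme.Modules.pullbackPushforwardAdjunction q).unit.app _ ≫
        (Scheme.Modules.pushforward q).map
          ((Scheme.Modules.pullbackComp q a ≪≫ Scheme.Modules.pullbackCongr h).hom.app G) := by
  subst h
  refine pullback_hom_ext a fun U m => ?_
  rw [transUnit_pullSec]
  refine (Groth.PicAux.res_self _ _).trans ?_
  exact (pullSec_comp q a G m).symm

theorem transUnit_app_eq_zero_iff (a : Y ⟶ X) (b : Z ⟶ X) (q : Z ⟶ Y) (h : q ≫ a = b)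
    {V : Y.Opens} (s : Γ((Scheme.Modules.pullback a).obj G, V)) :
    (transUnit G a b q h).app V s = 0 ↔ pullSec q _ s = 0 := by
  rw [transUnit_eq]
  let e := (Scheme.Modules.pullbackComp q a ≪≫ Scheme.Modules.pullbackCongr h).app G
  change e.hom.app (q ⁻¹ᵁ V) (pullSec q _ s) = 0 ↔ _
  refine ⟨fun h0 => ?_, fun h0 => by rw [h0]; exact map_zero _⟩
  have := congrArg (fun t => e.inv.app (q ⁻¹ᵁ V) t) h0
  rw [map_zero] at this
  exact (congr(($(e.hom_inv_id)).app (q ⁻¹ᵁ V) (pullSec q _ s))).symm.trans this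

theorem pushPullMap_app_eq_zero {a : Y ⟶ X} {b : Z ⟶ X} (q : Z ⟶ Y) (h : q ≫ a = b) {U : X.Opens}
    (s : Γ((Scheme.Modules.pullback a).obj G, a ⁻¹ᵁ U))
    (hs : pullSec q ((Scheme.Modules.pullback a).obj G) s = 0) :
    (pushPullMap G q h).app U s = 0 := by
  rw [pushPullMap_app, (transUnit_app_eq_zero_iff G a b q h s).2 hs]
  exact map_zero _

theorem pullSec_eq_zero_of_pushPullMap {a : Y ⟶ X} {b : Z ⟶ X} (q : Z ⟶ Y) (h : q ≫ a = b)
    {U : X.Opens} (s : Γ((Scheme.Modules.pullback a).obj G, a ⁻¹ᵁ U))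
    (hs : (pushPullMap G q h).app U s = 0) :
    pullSec q ((Scheme.Modules.pullback a).obj G) s = 0 := by
  rw [← transUnit_app_eq_zero_iff G a b q h]
  rw [pushPullMap_app] at hs
  have := congrArg (res _ (V := q ⁻¹ᵁ (a ⁻¹ᵁ U)) (preimage_eq h U).ge) hs
  rw [Groth.PicAux.res_res, Groth.PicAux.res_self] at this
  exact this.trans (map_zero _)

end

variable {I : Type u} [Category.{u} I] (D : I ⥤ Scheme.{u}) (c : Cone D) (i : I)
  (G : (D.obj i).Modules)

/-- The system `φ ↦ (D φ)_*(D φ)^*G`. -/
abbrev stages : (Over i)ᵒᵖ ⥤ (D.obj i).Modules := (Over.post D).op ⋙ pushPull G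

/-- The cocone with point `π_*π^*G`. -/
def stageCocone : Cocone (stages D i G) where
  pt := (pushPull G).obj (op (Over.mk (c.π.app i)))
  ι :=
    { app := fun j => (pushPull G).map
        (Over.homMk (U := Over.mk (c.π.app i)) (V := (Over.post D).obj j.unop)
          (c.π.app j.unop.left) (c.w j.unop.hom)).op
      naturality := fun j k f => by
        dsimp only [Functor.comp_map, stages]
        rw [← Functor.map_comp]
        refine (congrArg (pushPull G).map (Quiver.Hom.unop_inj (Over.OverMorphism.ext ?_))).trans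
          (Category.comp_id _).symm
        exact c.w f.unop.left }

variable [IsCofiltered I] [∀ (i j : I) (f : i ⟶ j), IsAffineHom (D.map f)] (hc : IsLimit c)
  [G.IsQuasicoherent]

instance (j : (Over i)ᵒᵖ) : ((stages D i G).obj j).IsQuasicoherent :=
  Groth.QCohMod.isQCoh_pushforward ((Scheme.Modules.pullback (D.map j.unop.hom)).obj G)
    (D.map j.unop.hom)

include hc in
theorem isQCoh_stageCocone_pt : (stageCocone D c i G).pt.IsQuasicoherent :=
  have : ∀ {a b : I} (f : a ⟶ b), IsAffineHom (D.map f) := fun {_ _} _ => inferInstance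
  have := isAffineHom_π_app _ _ hc i
  Groth.QCohMod.isQCoh_pushforward _ (c.π.app i)

include hc in
/-- A section of a stage killed in the limit is killed at a later stage. -/
theorem exists_stage_map_eq_zero {A : (D.obj i).Opens} (hA : IsAffineOpen A) (j : (Over i)ᵒᵖ)
    (d : Γ((stages D i G).obj j, A))
    (h : ((stageCocone D c i G).ι.app j).app A d = 0) :
    ∃ (k : (Over i)ᵒᵖ) (f : j ⟶ k), ((stages D i G).map f).app A d = 0 := by
  let φ := j.unop.hom
  have h1 : pullSec (c.π.app j.unop.left) ((Scheme.Modules.pullback (D.map φ)).obj G) d = 0 :=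
    pullSec_eq_zero_of_pushPullMap G (c.π.app j.unop.left) (c.w φ) d h
  obtain ⟨k, r, hr⟩ := exists_pullSec_eq_zero D c hc ((Scheme.Modules.pullback (D.map φ)).obj G)
    (hA.preimage (D.map φ)) d h1
  refine ⟨op (Over.mk (r ≫ φ)), (Over.homMk r).op, ?_⟩
  exact pushPullMap_app_eq_zero G (D.map r) (D.map_comp r φ).symm d hr

include hc in
/-- Every section of `π_*π^*G` over an affine open comes from a stage. -/
theorem exists_stage_app_eq {A : (D.obj i).Opens} (hA : IsAffineOpen A)
    (s : Γ((stageCocone D c i G).pt, A)) :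
    ∃ (j : (Over i)ᵒᵖ) (d : Γ((stages D i G).obj j, A)),
      ((stageCocone D c i G).ι.app j).app A d = s := by
  have : ∀ {a b : I} (f : a ⟶ b), IsAffineHom (D.map f) := fun {_ _} _ => inferInstance
  have := isAffineHom_π_app _ _ hc i
  let _ : Algebra Γ(D.obj i, A) Γ(c.pt, lim D c A) :=
    Groth.QCohMod.sectionsAlg (c.π.app i) (le_refl (lim D c A))
  obtain ⟨z, rfl⟩ := (Groth.QCohMod.pullSecTensor_bijective (c.π.app i) G
    (le_refl (lim D c A)) hA (hA.preimage _)).2 s
  induction z using TensorProduct.induction_on with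
  | zero =>
    refine ⟨op (Over.mk (𝟙 i)), 0, ?_⟩
    rw [map_zero]
    exact (map_zero _).symm
  | tmul b m =>
    obtain ⟨j, h, t, ht⟩ := exists_toLim_eq_affine D c hc hA b
    refine ⟨op (Over.mk h), (t • pullSec (D.map h) G m :
      Γ((Scheme.Modules.pullback (D.map h)).obj G, D.map h ⁻¹ᵁ A)), ?_⟩
    rw [Groth.QCohMod.pullSecTensor_tmul]
    change res _ (preimage_eq (c.w h) A).le
      ((transUnit G (D.map h) (c.π.app i) (c.π.app j) (c.w h)).app (D.map h ⁻¹ᵁ A)
        (t • pullSec (D.map h) G m)) = _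
    erw [Scheme.Modules.Hom.app_smul, transUnit_pullSec, Groth.PicAux.res_smul,
      Groth.PicAux.res_res, Groth.PicAux.res_self]
    refine congrArg₂ (· • ·) ?_ (Groth.QCohMod.res_self _ _).symm
    rw [← ht, toLim, Scheme.Hom.appLE]
    rfl
  | add y z hy hz =>
    obtain ⟨j, d, hd⟩ := hy
    obtain ⟨k, e, he⟩ := hz
    let l := IsFiltered.max j k
    refine ⟨l, ((stages D i G).map (IsFiltered.leftToMax j k)).app A d +
      ((stages D i G).map (IsFiltered.rightToMax j k)).app A e, ?_⟩
    rw [map_add, map_add, Groth.QCohMod.cocone_app_app, Groth.QCohMod.cocone_app_app]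
    exact congrArg₂ (· + ·) hd he

include hc in
/-- `π_*π^*G` is the colimit of the `(D φ)_*(D φ)^*G`. -/
theorem nonempty_isColimit : Nonempty (IsColimit (stageCocone D c i G)) := by
  have : (colimit (stages D i G)).IsQuasicoherent :=
    Groth.QCohMod.isQCoh_of_isColimit _ _ (colimit.isColimit (stages D i G))
  have : (colimit.cocone (stages D i G)).pt.IsQuasicoherent := this
  have := isQCoh_stageCocone_pt D c i G hc
  let κ := colimit.desc (stages D i G) (stageCocone D c i G)
  have hκ : ∀ (j : (Over i)ᵒᵖ) (A : (D.obj i).Opens) (d : Γ((stages D i G).obj j, A)),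
      κ.app A ((Groth.QCohMod.coc (colimit.cocone (stages D i G)) j).app A d) =
        ((stageCocone D c i G).ι.app j).app A d := fun j A d =>
    congr(($(colimit.ι_desc (stageCocone D c i G) j)).app A d)
  have hb : ∀ A : (D.obj i).affineOpens, Function.Bijective (κ.app A.1) := by
    intro A
    refine ⟨(injective_iff_map_eq_zero _).2 fun a ha => ?_, fun s => ?_⟩
    · obtain ⟨j, d, rfl⟩ := Groth.QCohMod.exists_app_eq_affine (colimit.isColimit _) A.2 a
      obtain ⟨k, f, hf⟩ := exists_stage_map_eq_zero D c i G hc A.2 j d ((hκ j _ d).symm.trans ha)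
      rw [← Groth.QCohMod.cocone_app_app (colimit.cocone _) f, hf]
      exact map_zero _
    · obtain ⟨j, d, rfl⟩ := exists_stage_app_eq D c i G hc A.2 s
      exact ⟨_, hκ j _ d⟩
  have : IsIso κ := Groth.Ega2Proj.isIso_of_affine_cover κ
    (fun A : (D.obj i).affineOpens => A.1) (fun A => A.2) (iSup_affineOpens_eq_top _) hb
  have : IsIso ((colimit.isColimit (stages D i G)).desc (stageCocone D c i G)) := this
  exact ⟨IsColimit.ofPointIso (colimit.isColimit _)⟩

end Groth.LimitMod
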