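import Groth.Agent.LimitMod.Modules
import Groth.Agent.QCohMod.FPColimit

/-!
# Modules of finite presentation on a limit come from a stage
-/

universe u

open CategoryTheory Limits AlgebraicGeometry Opposite TopologicalSpace

noncomputable section

set_option backward.isDefEq.respectTransparency.types false

namespace Groth.LimitMod

open Groth.QCohMod (appₗ)

/-- A quasi-coherent module of finite type is a quotient of the inverse image of a module of finite
presentation along an affine morphism to a qcqs scheme. -/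
theorem exists_fp_epi {X T : Scheme.{u}} (π : T ⟶ X) [IsAffineHom π] [CompactSpace X]
    [QuasiSeparatedSpace X] (F : T.Modules) [F.IsQuasicoherent] (hF : CohB1.IsFT F) :
    ∃ (E : X.Modules) (_ : E.IsQuasicoherent) (p : (Scheme.Modules.pullback π).obj E ⟶ F),
      CohB1.IsFP E ∧ Epi p := by
  classical
  let P := (Scheme.Modules.pushforward π).obj F
  have : P.IsQuasicoherent := Groth.QCohMod.isQCoh_pushforward F π
  let κ := X.affineCover.finiteSubcover.I₀
  let U : κ → X.Opens := fun a => (X.affineCover.finiteSubcover.f a).opensRange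
  have hU : ∀ a, IsAffineOpen (U a) := fun a => isAffineOpen_opensRange _
  have hcov : iSup U = ⊤ := Opens.ext (Set.eq_univ_of_forall fun x =>
    Opens.mem_iSup.mpr ⟨_, X.affineCover.finiteSubcover.covers x⟩)
  have := fun a => Groth.QCohMod.finite_sections F hF ((hU a).preimage π)
  choose S hS using fun a =>
    (Module.Finite.fg_top : (⊤ : Submodule Γ(T, π ⁻¹ᵁ U a) Γ(F, π ⁻¹ᵁ U a)).FG)
  let ι := Σ a, S a
  choose G hG φ g hfp hg using fun x : ι => Groth.QCohMod.exists_fp_hit P (hU x.1) x.2.1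
  let E := ∐ G
  have hEfp : CohB1.IsFP E := Groth.QCohMod.isFP_sigma G hfp
  have : E.IsQuasicoherent := Groth.QCohMod.isQCoh_sigma G
  let p := ((Scheme.Modules.pullbackPushforwardAdjunction π).homEquiv _ _).symm (Sigma.desc φ)
  refine ⟨E, inferInstance, p, hEfp, Abelian.epi_of_cokernel_π_eq_zero _ ?_⟩
  refine Groth.QCohMod.hom_eq_zero_of_cover _ (fun a => π ⁻¹ᵁ U a) (fun a => (hU a).preimage π)
    (eq_top_iff.2 fun t _ => ?_) fun a s => ?_
  · obtain ⟨a, ha⟩ := Opens.mem_iSup.1 (hcov.ge (Set.mem_univ (π t)))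
    exact Opens.mem_iSup.2 ⟨a, ha⟩
  have hs : s ∈ Submodule.span Γ(T, π ⁻¹ᵁ U a) (S a : Set _) := (hS a).ge trivial
  change s ∈ LinearMap.ker (appₗ (cokernel.π p) (π ⁻¹ᵁ U a))
  refine Submodule.span_le.mpr (fun m hm => ?_) hs
  let x : ι := ⟨a, m, hm⟩
  have h1 : p.app (π ⁻¹ᵁ U a) (Groth.PicAux.pullSec π E ((Sigma.ι G x).app (U a) (g x))) = m := by
    have h2 := congr(($((Scheme.Modules.pullbackPushforwardAdjunction π).homEquiv_unit (f := p))).app
      (U a) ((Sigma.ι G x).app (U a) (g x)))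
    refine h2.symm.trans ?_
    rw [Equiv.apply_symm_apply]
    exact (congr(($(Sigma.ι_desc φ x)).app (U a) (g x))).trans (hg x)
  change (cokernel.π p).app (π ⁻¹ᵁ U a) m = 0
  rw [← h1]
  exact congr(($(cokernel.condition p)).app (π ⁻¹ᵁ U a) _)

variable {I : Type u} [Category.{u} I] [IsCofiltered I] {D : I ⥤ Scheme.{u}} {c : Cone D}
  (hc : IsLimit c) [∀ (i j : I) (f : i ⟶ j), IsAffineHom (D.map f)]

include hc in
/-- A quotient of finite presentation of `π^*E` comes from a quotient of a stage. -/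
theorem exists_stage_quotient {i : I} [CompactSpace (D.obj i)] [QuasiSeparatedSpace (D.obj i)]
    {E : (D.obj i).Modules} [E.IsQuasicoherent] (hE : CohB1.IsFP E) {F : c.pt.Modules}
    [F.IsQuasicoherent] (hF : CohB1.IsFP F)
    (p : (Scheme.Modules.pullback (c.π.app i)).obj E ⟶ F) [Epi p] :
    ∃ (j : I) (φ : j ⟶ i) (Fj : (D.obj j).Modules) (_ : Fj.IsQuasicoherent)
      (pj : (Scheme.Modules.pullback (D.map φ)).obj E ⟶ Fj)
      (e : (Scheme.Modules.pullback (c.π.app j)).obj Fj ≅ F),
      CohB1.IsFP Fj ∧ Epi pj ∧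
        ((cmpIso (D.map φ) (c.π.app i) (c.π.app j) (c.w φ)).app E).inv ≫
          (Scheme.Modules.pullback (c.π.app j)).map pj ≫ e.hom = p := by
  have : ∀ {a b : I} (f : a ⟶ b), IsAffineHom (D.map f) := fun {_ _} _ => inferInstance
  have := isAffineHom_π_app _ _ hc i
  have hK : CohB1.IsFT (kernel p) := Groth.Flatmor4.isFT_kernel_of_epi p
    (Groth.QCohMod.isFT_pullback _ E (Groth.PropsBasic.LocFree.isFT_of_isFP E hE)) hF
  obtain ⟨E₁, hq₁, q, hE₁, hq⟩ := exists_fp_epi (c.π.app i) (kernel p) hK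
  obtain ⟨j, φ, u, hu⟩ := exists_stage_hom hc hE₁ (q ≫ kernel.ι p)
  let e₁ := (cmpIso (D.map φ) (c.π.app i) (c.π.app j) (c.w φ)).app E₁
  let e₀ := (cmpIso (D.map φ) (c.π.app i) (c.π.app j) (c.w φ)).app E
  let L := Scheme.Modules.pullback (c.π.app j)
  have hp0 : L.map u ≫ e₀.hom ≫ p = 0 := by
    have := congrArg (fun t => e₁.hom ≫ t ≫ p) hu
    simp only [Category.assoc, kernel.condition, comp_zero, Iso.hom_inv_id_assoc, e₁] at this
    exact this
  -- `e₀.hom ≫ p` is a cokernel of `L.map u`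
  have hcok : IsColimit (CokernelCofork.ofπ (e₀.hom ≫ p) hp0) := by
    have hp := Abelian.epiIsCokernelOfKernel _ (kernelIsKernel p)
    have hp' := isCokernelEpiComp (f := kernel.ι p) hp q rfl
    refine CokernelCofork.IsColimit.ofπ' _ _ fun g hg => ?_
    refine ⟨(CokernelCofork.IsColimit.desc' hp' (e₀.inv ≫ g) ?_).1, ?_⟩
    · refine Eq.trans (congrArg (· ≫ e₀.inv ≫ g) hu.symm) ?_
      simp only [Category.assoc, e₀, Iso.hom_inv_id_assoc]
      rw [hg, comp_zero]
    · rw [Category.assoc, ← Iso.eq_inv_comp]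
      exact (CokernelCofork.IsColimit.desc' hp' (e₀.inv ≫ g) _).2
  have : ((Scheme.Modules.pullback (D.map φ)).obj E₁).IsQuasicoherent := inferInstance
  let hmap := CokernelCofork.mapIsColimit _ (cokernelIsCokernel u) L
  let e := hmap.coconePointUniqueUpToIso hcok
  refine ⟨j, φ, cokernel u, inferInstance, cokernel.π u, e, ?_, inferInstance, ?_⟩
  · exact Groth.QCohMod.isFP_cokernel_of_isFT u (Groth.QCohMod.isFP_pullback _ E hE)
      (Groth.QCohMod.isFT_pullback _ E₁ (Groth.PropsBasic.LocFree.isFT_of_isFP E₁ hE₁))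
  · rw [Iso.inv_comp_eq]
    exact hmap.comp_coconePointUniqueUpToIso_hom hcok WalkingParallelPair.one

end Groth.LimitMod
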