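import Groth.Agent.LimitMod.Modules

/-!
# Exact sequences and quotients of modules along limits
-/

universe u

open CategoryTheory Limits AlgebraicGeometry Opposite TopologicalSpace

noncomputable section

set_option backward.isDefEq.respectTransparency.types false

namespace Groth.LimitMod

variable {X Y : Scheme.{u}} (p : Y ⟶ X) {F G H : X.Modules}

/-- Right exactness after inverse image as invertibility of a canonical map. -/
theorem exact_epi_map_iff (f : F ⟶ G) (g : G ⟶ H) (w : f ≫ g = 0)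
    (w' : (Scheme.Modules.pullback p).map f ≫ (Scheme.Modules.pullback p).map g = 0) :
    (ShortComplex.mk _ _ w').Exact ∧ Epi ((Scheme.Modules.pullback p).map g) ↔
      IsIso ((Scheme.Modules.pullback p).map (cokernel.desc f g w)) := by
  let L := Scheme.Modules.pullback p
  have h1 : cokernelComparison f L ≫ L.map (cokernel.desc f g w) = cokernel.desc _ _ w' :=
    cokernelComparison_map_desc f L w
  have hiff : IsIso (L.map (cokernel.desc f g w)) ↔ IsIso (cokernel.desc _ _ w') := by
    rw [← h1, isIso_comp_left_iff]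
  rw [hiff]
  constructor
  · rintro ⟨hex, hepi⟩
    have : Epi (ShortComplex.mk _ _ w').g := hepi
    have e : cokernel.desc _ _ w' =
        ((cokernelIsCokernel _).coconePointUniqueUpToIso hex.gIsCokernel).hom := by
      refine coequalizer.hom_ext ((cokernel.π_desc _ _ _).trans ?_)
      exact ((cokernelIsCokernel _).comp_coconePointUniqueUpToIso_hom hex.gIsCokernel
        WalkingParallelPair.one).symm
    rw [e]
    infer_instance
  · intro h
    have hc : IsColimit (CokernelCofork.ofπ _ w') :=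
      IsColimit.ofIsoColimit (cokernelIsCokernel _)
        (Cofork.ext (asIso (cokernel.desc _ _ w')) (cokernel.π_desc _ _ _))
    exact ⟨ShortComplex.exact_of_g_is_cokernel (ShortComplex.mk _ _ w') hc,
      Cofork.IsColimit.epi hc⟩

variable {I : Type u} [Category.{u} I] [IsCofiltered I] {D : I ⥤ Scheme.{u}} {c : Cone D}
  (hc : IsLimit c) [∀ (i j : I) (f : i ⟶ j), IsAffineHom (D.map f)]

include hc in
/-- A right exact sequence on the limit is right exact at a stage, given a zero composite. -/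
theorem exists_isIso_desc {i : I} [CompactSpace (D.obj i)] {F G H : (D.obj i).Modules}
    [F.IsQuasicoherent] [G.IsQuasicoherent] [H.IsQuasicoherent] (hF : CohB1.IsFT F)
    (hG : CohB1.IsFT G) (hH : CohB1.IsFP H) (f : F ⟶ G) (g : G ⟶ H)
    (w : (Scheme.Modules.pullback (c.π.app i)).map f ≫ (Scheme.Modules.pullback (c.π.app i)).map g = 0)
    (hex : (ShortComplex.mk _ _ w).Exact) (hepi : Epi ((Scheme.Modules.pullback (c.π.app i)).map g)) :
    ∃ (j : I) (φ : j ⟶ i)
      (w' : (Scheme.Modules.pullback (D.map φ)).map f ≫ (Scheme.Modules.pullback (D.map φ)).map g = 0),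
      (ShortComplex.mk _ _ w').Exact ∧ Epi ((Scheme.Modules.pullback (D.map φ)).map g) := by
  obtain ⟨j, φ, hφ⟩ := exists_pullback_map_eq_zero hc hF (f ≫ g) (by rw [Functor.map_comp, w])
  have := compactSpace_stage (D := D) φ
  let P := Scheme.Modules.pullback (D.map φ)
  let L := Scheme.Modules.pullback (c.π.app j)
  let e := cmpIso (D.map φ) (c.π.app i) (c.π.app j) (c.w φ)
  have wj : P.map f ≫ P.map g = 0 := by rw [← Functor.map_comp]; exact hφ
  have wl : L.map (P.map f) ≫ L.map (P.map g) = 0 := by rw [← Functor.map_comp, wj, Functor.map_zero]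
  have hlim : (ShortComplex.mk _ _ wl).Exact ∧ Epi (L.map (P.map g)) :=
    ⟨(ShortComplex.exact_iff_of_iso (ShortComplex.isoMk (S₁ := ShortComplex.mk _ _ wl)
        (S₂ := ShortComplex.mk _ _ w) (e.app F) (e.app G) (e.app H) (e.hom.naturality f).symm
        (e.hom.naturality g).symm)).2 hex,
      (epi_map_comp_iff (D.map φ) (c.π.app i) (c.π.app j) (c.w φ) g).2 hepi⟩
  have : IsIso (L.map (cokernel.desc _ _ wj)) := (exact_epi_map_iff _ _ _ wj wl).1 hlim
  obtain ⟨k, r, hr⟩ := exists_isIso_map hc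
    (Groth.QCohMod.isFT_of_epi (cokernel.π (P.map f)) (Groth.QCohMod.isFT_pullback _ G hG))
    (Groth.QCohMod.isFP_pullback _ H hH) (cokernel.desc _ _ wj)
  let P' := Scheme.Modules.pullback (D.map (r ≫ φ))
  let R := Scheme.Modules.pullback (D.map r)
  let e' := cmpIso (D.map φ) (D.map (r ≫ φ)) (D.map r) (D.map_comp r φ).symm
  have wk : R.map (P.map f) ≫ R.map (P.map g) = 0 := by rw [← Functor.map_comp, wj, Functor.map_zero]
  obtain ⟨h1, h2⟩ := (exact_epi_map_iff _ _ _ wj wk).2 hr
  have w' : P'.map f ≫ P'.map g = 0 := by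
    rw [← Functor.map_comp, ← map_comp_eq_zero_iff (D.map φ) (D.map (r ≫ φ)) (D.map r)
      (D.map_comp r φ).symm, hφ, Functor.map_zero]
  exact ⟨k, r ≫ φ, w', (ShortComplex.exact_iff_of_iso (ShortComplex.isoMk
      (S₁ := ShortComplex.mk _ _ wk) (S₂ := ShortComplex.mk _ _ w') (e'.app F) (e'.app G) (e'.app H)
      (e'.hom.naturality f).symm (e'.hom.naturality g).symm)).1 h1,
    (epi_map_comp_iff (D.map φ) (D.map (r ≫ φ)) (D.map r) (D.map_comp r φ).symm g).1 h2⟩

omit [IsCofiltered I] [∀ (i j : I) (f : i ⟶ j), IsAffineHom (D.map f)] in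
theorem exact_epi_of_stage {i j : I} (φ : j ⟶ i) {F G H : (D.obj i).Modules} (f : F ⟶ G) (g : G ⟶ H)
    (w : (Scheme.Modules.pullback (D.map φ)).map f ≫ (Scheme.Modules.pullback (D.map φ)).map g = 0)
    (hex : (ShortComplex.mk _ _ w).Exact) (hepi : Epi ((Scheme.Modules.pullback (D.map φ)).map g))
    (c : Cone D) :
    ∃ w' : (Scheme.Modules.pullback (c.π.app i)).map f ≫ (Scheme.Modules.pullback (c.π.app i)).map g = 0,
      (ShortComplex.mk _ _ w').Exact ∧ Epi ((Scheme.Modules.pullback (c.π.app i)).map g) := by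
  let P := Scheme.Modules.pullback (D.map φ)
  let L := Scheme.Modules.pullback (c.π.app j)
  let e := cmpIso (D.map φ) (c.π.app i) (c.π.app j) (c.w φ)
  have : Epi (ShortComplex.mk _ _ w).g := hepi
  have wl : L.map (P.map f) ≫ L.map (P.map g) = 0 := by rw [← Functor.map_comp, w, Functor.map_zero]
  have hcl : IsColimit (CokernelCofork.ofπ _ wl) :=
    CokernelCofork.mapIsColimit _ hex.gIsCokernel L
  have h1 := ShortComplex.exact_of_g_is_cokernel (ShortComplex.mk _ _ wl) hcl
  have h2 : Epi (L.map (P.map g)) := Cofork.IsColimit.epi hcl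
  have w' : (Scheme.Modules.pullback (c.π.app i)).map f ≫ (Scheme.Modules.pullback (c.π.app i)).map g = 0 := by
    rw [← cancel_epi (e.hom.app F), ← e.hom.naturality_assoc f, ← e.hom.naturality g]
    exact ((Category.assoc _ _ _).symm.trans (congrArg (· ≫ e.hom.app H) wl)).trans
      (zero_comp.trans comp_zero.symm)
  exact ⟨w', (ShortComplex.exact_iff_of_iso (ShortComplex.isoMk
      (S₁ := ShortComplex.mk _ _ wl) (S₂ := ShortComplex.mk _ _ w') (e.app F) (e.app G) (e.app H)
      (e.hom.naturality f).symm (e.hom.naturality g).symm)).1 h1,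
    (epi_map_comp_iff (D.map φ) (c.π.app i) (c.π.app j) (c.w φ) g).1 h2⟩

include hc in
/-- Domination of quotients descends. -/
theorem exists_factor_stage {i : I} [CompactSpace (D.obj i)] {F G₁ G₂ : (D.obj i).Modules}
    [F.IsQuasicoherent] [G₁.IsQuasicoherent] [G₂.IsQuasicoherent] (hF : CohB1.IsFT F)
    (hG₁ : CohB1.IsFP G₁) (p₁ : F ⟶ G₁) (p₂ : F ⟶ G₂) [Epi p₁]
    (k : (Scheme.Modules.pullback (c.π.app i)).obj G₁ ⟶ (Scheme.Modules.pullback (c.π.app i)).obj G₂)
    (hk : (Scheme.Modules.pullback (c.π.app i)).map p₁ ≫ k = (Scheme.Modules.pullback (c.π.app i)).map p₂) :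
    ∃ (j : I) (φ : j ⟶ i) (k' : (Scheme.Modules.pullback (D.map φ)).obj G₁ ⟶
        (Scheme.Modules.pullback (D.map φ)).obj G₂),
      (Scheme.Modules.pullback (D.map φ)).map p₁ ≫ k' = (Scheme.Modules.pullback (D.map φ)).map p₂ := by
  obtain ⟨j, φ, hφ⟩ := exists_pullback_map_eq_zero hc
    (Groth.Flatmor4.isFT_kernel_of_epi p₁ hF hG₁) (kernel.ι p₁ ≫ p₂) (by
      rw [Functor.map_comp, ← hk, ← Category.assoc, ← Functor.map_comp, kernel.condition,
        Functor.map_zero, zero_comp])
  let hcok := CokernelCofork.mapIsColimit _ (Abelian.epiIsCokernelOfKernel _ (kernelIsKernel p₁))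
    (Scheme.Modules.pullback (D.map φ))
  rw [Functor.map_comp] at hφ
  obtain ⟨l, hl⟩ := CokernelCofork.IsColimit.desc' hcok _ hφ
  exact ⟨j, φ, l, hl⟩

end Groth.LimitMod
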