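import Groth.Agent.LimitMod.Modules
import Groth.Agent.Limits.Stalk
import Groth.Agent.SchemeMorphisms.PrinParts.FlatExact
import Groth.Agent.QCohMod.QCQS

/-!
# Exactness and injectivity along limits with flat transition maps
-/

universe u

open CategoryTheory Limits AlgebraicGeometry Opposite TopologicalSpace

noncomputable section

set_option backward.isDefEq.respectTransparency.types false

namespace Groth.LimitMod

section Functor

variable {A B : Type*} [Category A] [Category B] [Abelian A] [Abelian B] (L : A ⥤ B) [L.Additive]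
  [PreservesFiniteLimits L] [PreservesFiniteColimits L] {F G H : A} (f : F ⟶ G) (g : G ⟶ H)

omit [PreservesFiniteColimits L] in
theorem mono_map_iff_kernel_zero : Mono (L.map f) ↔ L.map (kernel.ι f) = 0 := by
  constructor
  · intro h
    rw [← cancel_mono (L.map f), ← L.map_comp, kernel.condition, L.map_zero, zero_comp]
  · intro h
    refine Preadditive.mono_of_kernel_zero ?_
    rw [← cancel_epi (PreservesKernel.iso L f).hom, comp_zero, PreservesKernel.iso_hom,
      kernelComparison_comp_ι, h]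

theorem exact_map_iff_zero :
    (∃ w : L.map f ≫ L.map g = 0, (ShortComplex.mk _ _ w).Exact) ↔
      L.map (image.ι f ≫ g) = 0 ∧ L.map (kernel.ι g ≫ cokernel.π f) = 0 := by
  have h1 : L.map f ≫ L.map g = 0 ↔ L.map (image.ι f ≫ g) = 0 := by
    rw [← L.map_comp, ← cancel_epi (L.map (factorThruImage f)) (g := L.map (image.ι f ≫ g)) (h := 0),
      comp_zero, ← L.map_comp, image.fac_assoc]
  have h2 : ∀ w : L.map f ≫ L.map g = 0, (ShortComplex.mk _ _ w).Exact ↔
      L.map (kernel.ι g ≫ cokernel.π f) = 0 := fun w => by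
    rw [ShortComplex.exact_iff_kernel_ι_comp_cokernel_π_zero, L.map_comp]
    have e1 : (PreservesKernel.iso L g).hom ≫ kernel.ι (L.map g) = L.map (kernel.ι g) := by
      rw [PreservesKernel.iso_hom, kernelComparison_comp_ι]
    have e2 : cokernel.π (L.map f) ≫ (PreservesCokernel.iso L f).inv = L.map (cokernel.π f) := by
      rw [PreservesCokernel.iso_inv, π_comp_cokernelComparison]
    rw [← e1, ← e2]
    constructor
    · intro h
      simp only [Category.assoc]
      rw [reassoc_of% h, zero_comp, comp_zero]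
    · intro h
      simp only [Category.assoc] at h
      rw [← cancel_epi (PreservesKernel.iso L g).hom, ← cancel_mono (PreservesCokernel.iso L f).inv]
      simp only [Category.assoc, comp_zero, zero_comp]
      exact h
  constructor
  · rintro ⟨w, hw⟩
    exact ⟨h1.1 w, (h2 w).1 hw⟩
  · rintro ⟨hw, hk⟩
    exact ⟨h1.2 hw, (h2 _).2 hk⟩

end Functor

variable {I : Type u} [Category.{u} I] {D : I ⥤ Scheme.{u}} {c : Cone D}

/-- A map killed at a stage is killed at every later stage. -/
theorem map_eq_zero_comp {X Y Z : Scheme.{u}} {F G : X.Modules} (a : Y ⟶ X) (b : Z ⟶ X) (q : Z ⟶ Y)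
    (h : q ≫ a = b) (k : F ⟶ G) (hk : (Scheme.Modules.pullback a).map k = 0) :
    (Scheme.Modules.pullback b).map k = 0 := by
  rw [← cmp_conj a b q h k, hk, Functor.map_zero, zero_comp, comp_zero]

variable (hc : IsLimit c) [IsCofiltered I] [∀ (i j : I) (f : i ⟶ j), IsAffineHom (D.map f)]
  {i : I} [CompactSpace (D.obj i)] {F G H : (D.obj i).Modules}

include hc in
theorem map_eq_zero_iff_eventually [F.IsQuasicoherent] [G.IsQuasicoherent] (hF : CohB1.IsFT F)
    (k : F ⟶ G) :
    (Scheme.Modules.pullback (c.π.app i)).map k = 0 ↔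
      ∃ (j : I) (φ : j ⟶ i), (Scheme.Modules.pullback (D.map φ)).map k = 0 :=
  ⟨exists_pullback_map_eq_zero hc hF k,
    fun ⟨j, φ, h⟩ => map_eq_zero_comp (D.map φ) _ (c.π.app j) (c.w φ) k h⟩

include hc in
theorem map_eq_zero_and_iff_eventually {K M : (D.obj i).Modules} [F.IsQuasicoherent]
    [G.IsQuasicoherent] [K.IsQuasicoherent] [M.IsQuasicoherent] (hF : CohB1.IsFT F)
    (hK : CohB1.IsFT K) (k : F ⟶ G) (l : K ⟶ M) :
    ((Scheme.Modules.pullback (c.π.app i)).map k = 0 ∧
        (Scheme.Modules.pullback (c.π.app i)).map l = 0) ↔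
      ∃ (j : I) (φ : j ⟶ i), (Scheme.Modules.pullback (D.map φ)).map k = 0 ∧
        (Scheme.Modules.pullback (D.map φ)).map l = 0 := by
  refine ⟨fun ⟨h1, h2⟩ => ?_, fun ⟨j, φ, h1, h2⟩ =>
    ⟨(map_eq_zero_iff_eventually hc hF k).2 ⟨j, φ, h1⟩,
      (map_eq_zero_iff_eventually hc hK l).2 ⟨j, φ, h2⟩⟩⟩
  obtain ⟨a, φa, ha⟩ := exists_pullback_map_eq_zero hc hF k h1
  obtain ⟨b, φb, hb⟩ := exists_pullback_map_eq_zero hc hK l h2
  obtain ⟨j, p, q, hpq⟩ := IsCofiltered.cospan φa φb
  exact ⟨j, p ≫ φa, map_eq_zero_comp _ _ (D.map p) (D.map_comp p φa).symm k ha,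
    map_eq_zero_comp _ _ (D.map q) (by rw [← D.map_comp, hpq]) l hb⟩

omit [IsCofiltered I] [∀ (i j : I) (f : i ⟶ j), IsAffineHom (D.map f)] [CompactSpace (D.obj i)] in
theorem flatFunctor {X Y : Scheme.{u}} (p : Y ⟶ X) [Flat p] :
    (Scheme.Modules.pullback p).Additive ∧ PreservesFiniteLimits (Scheme.Modules.pullback p) ∧
      PreservesFiniteColimits (Scheme.Modules.pullback p) :=
  ⟨Adjunction.left_adjoint_additive (Scheme.Modules.pullbackPushforwardAdjunction p),
    Groth.PrinPartsAux.preservesFiniteLimits_pullback p,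
    have := (Scheme.Modules.pullbackPushforwardAdjunction p).leftAdjoint_preservesColimits
    inferInstance⟩

include hc in
theorem mono_iff_eventually [F.IsQuasicoherent] [G.IsQuasicoherent]
    (hfl : ∀ (i j : I) (φ : i ⟶ j), Flat (D.map φ)) (f : F ⟶ G) (hK : CohB1.IsFT (kernel f)) :
    Mono ((Scheme.Modules.pullback (c.π.app i)).map f) ↔
      ∃ (j : I) (φ : j ⟶ i), Mono ((Scheme.Modules.pullback (D.map φ)).map f) := by
  have : Flat (c.π.app i) := Groth.Limits.flat_π D c hc fun j φ => hfl j i φ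
  obtain ⟨_, _, _⟩ := flatFunctor (c.π.app i)
  rw [mono_map_iff_kernel_zero, map_eq_zero_iff_eventually hc hK]
  refine exists_congr fun j => exists_congr fun φ => ?_
  have := hfl j i φ
  obtain ⟨_, _, _⟩ := flatFunctor (D.map φ)
  rw [mono_map_iff_kernel_zero]

include hc in
theorem exact_iff_eventually [F.IsQuasicoherent] [G.IsQuasicoherent] [H.IsQuasicoherent]
    (hfl : ∀ (i j : I) (φ : i ⟶ j), Flat (D.map φ)) (f : F ⟶ G) (g : G ⟶ H)
    (hIm : CohB1.IsFT (image f)) (hKer : CohB1.IsFT (kernel g)) :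
    (∃ w : (Scheme.Modules.pullback (c.π.app i)).map f ≫ (Scheme.Modules.pullback (c.π.app i)).map g = 0,
        (ShortComplex.mk _ _ w).Exact) ↔
      ∃ (j : I) (φ : j ⟶ i)
        (w : (Scheme.Modules.pullback (D.map φ)).map f ≫ (Scheme.Modules.pullback (D.map φ)).map g = 0),
        (ShortComplex.mk _ _ w).Exact := by
  have : Flat (c.π.app i) := Groth.Limits.flat_π D c hc fun j φ => hfl j i φ
  obtain ⟨_, _, _⟩ := flatFunctor (c.π.app i)
  have : (Abelian.image f).IsQuasicoherent := inferInstanceAs (kernel (cokernel.π f)).IsQuasicoherent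
  have : (image f).IsQuasicoherent :=
    (Groth.QCohMod.isQCoh_iff_of_iso (Abelian.imageIsoImage f)).1 ‹_›
  rw [exact_map_iff_zero, map_eq_zero_and_iff_eventually hc hIm hKer]
  refine exists_congr fun j => exists_congr fun φ => ?_
  have := hfl j i φ
  obtain ⟨_, _, _⟩ := flatFunctor (D.map φ)
  exact (exact_map_iff_zero (Scheme.Modules.pullback (D.map φ)) f g).symm

end Groth.LimitMod
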