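import Groth.Agent.LimitMod.Colimit
import Groth.Agent.QCohMod.PullbackQCoh

/-!
# Homomorphisms of modules on a limit come from a stage
-/

universe u

open CategoryTheory Limits AlgebraicGeometry Opposite TopologicalSpace

noncomputable section

set_option backward.isDefEq.respectTransparency.types false

namespace Groth.LimitMod

open Groth.PicAux

section

variable {X Y Z : Scheme.{u}} {F G : X.Modules} (a : Y ⟶ X) (b : Z ⟶ X) (q : Z ⟶ Y) (h : q ≫ a = b)

/-- The comparison `q^*a^* ≅ b^*`. -/
abbrev cmpIso : (Scheme.Modules.pullback a ⋙ Scheme.Modules.pullback q) ≅ Scheme.Modules.pullback b :=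
  Scheme.Modules.pullbackComp q a ≪≫ Scheme.Modules.pullbackCongr h

theorem cmpIso_inv_pullSec {U : X.Opens} (m : Γ(F, U)) :
    ((cmpIso a b q h).app F).inv.app (b ⁻¹ᵁ U) (pullSec b F m) =
      res _ (preimage_eq h U).le (pullSec q _ (pullSec a F m)) := by
  subst h
  refine Eq.trans ?_ (res_self _ _).symm
  have h' := congrArg (fun t => ((Scheme.Modules.pullbackComp q a).inv.app F).app (q ⁻¹ᵁ a ⁻¹ᵁ U) t)
    (pullSec_comp q a F m)
  refine h'.symm.trans ?_
  exact congr(($(Iso.hom_inv_id_app (Scheme.Modules.pullbackComp q a) F)).app (q ⁻¹ᵁ a ⁻¹ᵁ U)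
    (pullSec q _ (pullSec a F m)))

/-- Adjuncts of a transported inverse image of a homomorphism. -/
theorem homEquiv_transport (k : (Scheme.Modules.pullback a).obj F ⟶ (Scheme.Modules.pullback a).obj G) :
    (Scheme.Modules.pullbackPushforwardAdjunction b).homEquiv _ _
        (((cmpIso a b q h).app F).inv ≫ (Scheme.Modules.pullback q).map k ≫
          ((cmpIso a b q h).app G).hom) =
      (Scheme.Modules.pullbackPushforwardAdjunction a).homEquiv _ _ k ≫ pushPullMap G q h := by
  rw [Adjunction.homEquiv_unit, Adjunction.homEquiv_unit, Category.assoc]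
  ext U m
  change ((cmpIso a b q h).app G).hom.app (b ⁻¹ᵁ U) (((Scheme.Modules.pullback q).map k).app (b ⁻¹ᵁ U)
      (((cmpIso a b q h).app F).inv.app (b ⁻¹ᵁ U) (pullSec b F m))) =
    (pushPullMap G q h).app U (k.app (a ⁻¹ᵁ U) (pullSec a F m))
  rw [cmpIso_inv_pullSec, pushPullMap_app, transUnit_eq, app_res, pullSec_map]
  exact app_res _ _ _

end

variable {I : Type u} [Category.{u} I] [IsCofiltered I] {D : I ⥤ Scheme.{u}} {c : Cone D}
  (hc : IsLimit c) [∀ (i j : I) (f : i ⟶ j), IsAffineHom (D.map f)]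

omit [IsCofiltered I] in
theorem compactSpace_stage {i j : I} (φ : j ⟶ i) [CompactSpace (D.obj i)] :
    CompactSpace (D.obj j) :=
  QuasiCompact.compactSpace_of_compactSpace (D.map φ)

omit [IsCofiltered I] in
theorem quasiSeparatedSpace_stage {i j : I} (φ : j ⟶ i) [QuasiSeparatedSpace (D.obj i)] :
    QuasiSeparatedSpace (D.obj j) :=
  quasiSeparatedSpace_of_quasiSeparated (D.map φ)

include hc in
/-- A homomorphism out of a module of finite type killed on the limit is killed at a stage. -/
theorem exists_pullback_map_eq_zero {i : I} [CompactSpace (D.obj i)] {F G : (D.obj i).Modules}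
    [F.IsQuasicoherent] [G.IsQuasicoherent] (hF : CohB1.IsFT F) (k : F ⟶ G)
    (h : (Scheme.Modules.pullback (c.π.app i)).map k = 0) :
    ∃ (j : I) (φ : j ⟶ i), (Scheme.Modules.pullback (D.map φ)).map k = 0 := by
  obtain ⟨hcol⟩ := nonempty_isColimit D c i G hc
  let j₀ : (Over i)ᵒᵖ := op (Over.mk (𝟙 i))
  let ψ : F ⟶ (stages D i G).obj j₀ :=
    k ≫ (Scheme.Modules.pullbackPushforwardAdjunction (D.map (𝟙 i))).unit.app G
  have hψ : ψ ≫ Groth.QCohMod.coc (stageCocone D c i G) j₀ = 0 := by
    refine (Category.assoc _ _ _).trans ((congrArg (k ≫ ·) (unit_pushPullMap G _ _)).trans ?_)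
    refine ((Scheme.Modules.pullbackPushforwardAdjunction (c.π.app i)).unit.naturality k).trans ?_
    rw [Functor.comp_map, h, Functor.map_zero]
    exact comp_zero
  obtain ⟨l, u, hu⟩ := Groth.QCohMod.exists_hom_eq_zero_of_isFT hcol F hF ψ hψ
  refine ⟨l.unop.left, l.unop.hom, ?_⟩
  have h2 : k ≫ (Scheme.Modules.pullbackPushforwardAdjunction (D.map l.unop.hom)).unit.app G = 0 := by
    refine ((congrArg (k ≫ ·) (unit_pushPullMap G _ _).symm).trans (Category.assoc _ _ _).symm).trans hu
  refine ((Scheme.Modules.pullbackPushforwardAdjunction (D.map l.unop.hom)).homEquiv F _).injective ?_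
  rw [Adjunction.homEquiv_unit, Adjunction.homEquiv_unit, Functor.map_zero, comp_zero]
  exact ((Scheme.Modules.pullbackPushforwardAdjunction (D.map l.unop.hom)).unit.naturality k).symm.trans h2

include hc in
/-- Surjectivity of `colim Hom(F_j, G_j) → Hom(F, G)`. -/
theorem exists_stage_hom {i : I} [CompactSpace (D.obj i)] [QuasiSeparatedSpace (D.obj i)]
    {F G : (D.obj i).Modules} [F.IsQuasicoherent] (hF : CohB1.IsFP F) [G.IsQuasicoherent]
    (h : (Scheme.Modules.pullback (c.π.app i)).obj F ⟶ (Scheme.Modules.pullback (c.π.app i)).obj G) :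
    ∃ (j : I) (φ : j ⟶ i)
      (hj : (Scheme.Modules.pullback (D.map φ)).obj F ⟶ (Scheme.Modules.pullback (D.map φ)).obj G),
      ((cmpIso (D.map φ) (c.π.app i) (c.π.app j) (c.w φ)).app F).inv ≫
        (Scheme.Modules.pullback (c.π.app j)).map hj ≫
          ((cmpIso (D.map φ) (c.π.app i) (c.π.app j) (c.w φ)).app G).hom = h := by
  obtain ⟨hcol⟩ := nonempty_isColimit D c i G hc
  have := isQCoh_stageCocone_pt D c i G hc
  obtain ⟨j, ψ, hψ⟩ := Groth.QCohMod.exists_hom_lift_of_isFP hcol F hF
    ((Scheme.Modules.pullbackPushforwardAdjunction (c.π.app i)).homEquiv _ _ h)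
  let adj := Scheme.Modules.pullbackPushforwardAdjunction (D.map j.unop.hom)
  refine ⟨j.unop.left, j.unop.hom, (adj.homEquiv _ _).symm ψ, ?_⟩
  refine ((Scheme.Modules.pullbackPushforwardAdjunction (c.π.app i)).homEquiv _ _).injective ?_
  rw [homEquiv_transport]
  refine Eq.trans (congrArg (· ≫ _) (Equiv.apply_symm_apply _ _)) ?_
  exact hψ

end Groth.LimitMod
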