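import Groth.Agent.LimitMod.Hom
import Groth.Agent.QCohMod.FTCriterion
import Groth.Agent.Flatmor4.StageZero
import Groth.Agent.PropsBasic.LocFree

/-!
# Epimorphisms, isomorphisms of modules along limits
-/

universe u

open CategoryTheory Limits AlgebraicGeometry Opposite TopologicalSpace

noncomputable section

set_option backward.isDefEq.respectTransparency.types false

namespace Groth.LimitMod

section

variable {X Y Z : Scheme.{u}} {F G : X.Modules} (a : Y ⟶ X) (b : Z ⟶ X) (q : Z ⟶ Y) (h : q ≫ a = b)

theorem cmp_conj (f : F ⟶ G) :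
    ((cmpIso a b q h).app F).inv ≫
        (Scheme.Modules.pullback q).map ((Scheme.Modules.pullback a).map f) ≫
          ((cmpIso a b q h).app G).hom = (Scheme.Modules.pullback b).map f :=
  (NatIso.naturality_1 (cmpIso a b q h) f)

include h in
theorem isIso_map_comp_iff (f : F ⟶ G) :
    IsIso ((Scheme.Modules.pullback q).map ((Scheme.Modules.pullback a).map f)) ↔
      IsIso ((Scheme.Modules.pullback b).map f) :=
  NatIso.isIso_map_iff (cmpIso a b q h) f

include h in
theorem epi_map_comp_iff (f : F ⟶ G) :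
    Epi ((Scheme.Modules.pullback q).map ((Scheme.Modules.pullback a).map f)) ↔
      Epi ((Scheme.Modules.pullback b).map f) :=
  (MorphismProperty.epimorphisms Z.Modules).arrow_mk_iso_iff
    (((Functor.mapArrowFunctor X.Modules Z.Modules).mapIso (cmpIso a b q h)).app (Arrow.mk f))

include h in
theorem map_comp_eq_zero_iff (f : F ⟶ G) :
    (Scheme.Modules.pullback q).map ((Scheme.Modules.pullback a).map f) = 0 ↔
      (Scheme.Modules.pullback b).map f = 0 := by
  rw [← cmp_conj a b q h f]
  exact ⟨fun h0 => by rw [h0, zero_comp, comp_zero], fun h0 => by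
    rwa [← cancel_epi ((cmpIso a b q h).app F).inv, comp_zero,
      ← cancel_mono ((cmpIso a b q h).app G).hom, zero_comp, Category.assoc]⟩

end

/-- The inverse image of `f` is an epimorphism as soon as the inverse image of its cokernel
projection vanishes. -/
theorem epi_map_of_map_cokernel_π_eq_zero {X Y : Scheme.{u}} (p : Y ⟶ X) {F G : X.Modules} (f : F ⟶ G)
    (h : (Scheme.Modules.pullback p).map (cokernel.π f) = 0) :
    Epi ((Scheme.Modules.pullback p).map f) := by
  refine Preadditive.epi_of_cancel_zero _ fun g hg => ?_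
  obtain ⟨l, hl⟩ := Cofork.IsColimit.desc'
    (isColimitOfHasCokernelOfPreservesColimit (Scheme.Modules.pullback p) f) g (hg.trans zero_comp.symm)
  rw [← hl]
  exact (congrArg (· ≫ l) h).trans zero_comp

theorem map_cokernel_π_eq_zero {X Y : Scheme.{u}} (p : Y ⟶ X) {F G : X.Modules} (f : F ⟶ G)
    [Epi ((Scheme.Modules.pullback p).map f)] :
    (Scheme.Modules.pullback p).map (cokernel.π f) = 0 := by
  rw [← cancel_epi ((Scheme.Modules.pullback p).map f), ← Functor.map_comp, cokernel.condition,
    Functor.map_zero, comp_zero]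

variable {I : Type u} [Category.{u} I] [IsCofiltered I] {D : I ⥤ Scheme.{u}} {c : Cone D}
  (hc : IsLimit c) [∀ (i j : I) (f : i ⟶ j), IsAffineHom (D.map f)]

include hc in
/-- A homomorphism onto a module of finite type which is surjective on the limit is so at a stage. -/
theorem exists_epi_map {i : I} [CompactSpace (D.obj i)] {F G : (D.obj i).Modules}
    [F.IsQuasicoherent] [G.IsQuasicoherent] (hG : CohB1.IsFT G) (f : F ⟶ G)
    [Epi ((Scheme.Modules.pullback (c.π.app i)).map f)] :
    ∃ (j : I) (φ : j ⟶ i), Epi ((Scheme.Modules.pullback (D.map φ)).map f) := by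
  obtain ⟨j, φ, hφ⟩ := exists_pullback_map_eq_zero hc hG (cokernel.π f) (map_cokernel_π_eq_zero _ f)
  exact ⟨j, φ, epi_map_of_map_cokernel_π_eq_zero _ f hφ⟩

include hc in
/-- A homomorphism from a module of finite type to one of finite presentation which is an
isomorphism on the limit is so at a stage. -/
theorem exists_isIso_map {i : I} [CompactSpace (D.obj i)] {F G : (D.obj i).Modules}
    [F.IsQuasicoherent] [G.IsQuasicoherent] (hF : CohB1.IsFT F) (hG : CohB1.IsFP G) (f : F ⟶ G)
    [IsIso ((Scheme.Modules.pullback (c.π.app i)).map f)] :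
    ∃ (j : I) (φ : j ⟶ i), IsIso ((Scheme.Modules.pullback (D.map φ)).map f) := by
  obtain ⟨j, φ, hφ⟩ := exists_epi_map hc (Groth.PropsBasic.LocFree.isFT_of_isFP G hG) f
  have := compactSpace_stage (D := D) φ
  let f' := (Scheme.Modules.pullback (D.map φ)).map f
  have : Epi f' := hφ
  have hiso : IsIso ((Scheme.Modules.pullback (c.π.app j)).map f') :=
    (isIso_map_comp_iff (D.map φ) (c.π.app i) (c.π.app j) (c.w φ) f).2 ‹_›
  have hker : CohB1.IsFT (kernel f') :=
    Groth.Flatmor4.isFT_kernel_of_epi f' (Groth.QCohMod.isFT_pullback _ F hF)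
      (Groth.QCohMod.isFP_pullback _ G hG)
  obtain ⟨k, r, hr⟩ := exists_pullback_map_eq_zero hc hker (kernel.ι f') (by
    rw [← cancel_mono ((Scheme.Modules.pullback (c.π.app j)).map f'), ← Functor.map_comp,
      kernel.condition, Functor.map_zero, zero_comp])
  refine ⟨k, r ≫ φ, (isIso_map_comp_iff (D.map φ) (D.map (r ≫ φ)) (D.map r)
    (D.map_comp r φ).symm f).1 ?_⟩
  let hcok := CokernelCofork.mapIsColimit _ (Abelian.epiIsCokernelOfKernel _ (kernelIsKernel f'))
    (Scheme.Modules.pullback (D.map r))
  exact CokernelCofork.IsColimit.isIso_π _ hcok hr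

include hc in
/-- Modules of finite presentation isomorphic on the limit are isomorphic at a stage. -/
theorem exists_iso_stage {i : I} [CompactSpace (D.obj i)] [QuasiSeparatedSpace (D.obj i)]
    {F G : (D.obj i).Modules} [F.IsQuasicoherent] (hF : CohB1.IsFP F) [G.IsQuasicoherent]
    (hG : CohB1.IsFP G)
    (e : (Scheme.Modules.pullback (c.π.app i)).obj F ≅ (Scheme.Modules.pullback (c.π.app i)).obj G) :
    ∃ (j : I) (φ : j ⟶ i), Nonempty ((Scheme.Modules.pullback (D.map φ)).obj F ≅
      (Scheme.Modules.pullback (D.map φ)).obj G) := by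
  obtain ⟨j, φ, u, hu⟩ := exists_stage_hom hc hF e.hom
  have := compactSpace_stage (D := D) φ
  have hiso : IsIso ((Scheme.Modules.pullback (c.π.app j)).map u) := by
    have h1 : IsIso (((cmpIso (D.map φ) (c.π.app i) (c.π.app j) (c.w φ)).app F).inv ≫
        (Scheme.Modules.pullback (c.π.app j)).map u ≫
          ((cmpIso (D.map φ) (c.π.app i) (c.π.app j) (c.w φ)).app G).hom) := by
      rw [hu]; infer_instance
    simpa only [isIso_comp_left_iff, isIso_comp_right_iff] using h1
  obtain ⟨k, r, hr⟩ := exists_isIso_map hc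
    (Groth.QCohMod.isFT_pullback _ F (Groth.PropsBasic.LocFree.isFT_of_isFP F hF))
    (Groth.QCohMod.isFP_pullback _ G hG) u
  let e₁ := cmpIso (D.map φ) (D.map (r ≫ φ)) (D.map r) (D.map_comp r φ).symm
  exact ⟨k, r ≫ φ, ⟨(e₁.app F).symm ≪≫ asIso ((Scheme.Modules.pullback (D.map r)).map u) ≪≫ e₁.app G⟩⟩

end Groth.LimitMod
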