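import Groth.Agent.PicAux.Pullback
import Groth.Agent.DescentBase.El

/-!
# The modules `a_* a^* G` as a functor on schemes over the base
-/

universe u

open CategoryTheory Limits AlgebraicGeometry Opposite TopologicalSpace

noncomputable section

set_option backward.isDefEq.respectTransparency.types false

namespace Groth.LimitMod

open Groth.PicAux (pullSec res res_res res_self res_pullSec app_res)
open Groth.DescentBase (pullback_hom_ext)

variable {X Y Z W : Scheme.{u}} (G : X.Modules)

theorem preimage_eq {a : Y ⟶ X} {b : Z ⟶ X} {q : Z ⟶ Y} (h : q ≫ a = b) (U : X.Opens) :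
    b ⁻¹ᵁ U = q ⁻¹ᵁ (a ⁻¹ᵁ U) := by
  subst h; rfl

/-- The canonical map `a^*G ⟶ q_*b^*G` for `b = q ≫ a`. -/
def transUnit (a : Y ⟶ X) (b : Z ⟶ X) (q : Z ⟶ Y) (h : q ≫ a = b) :
    (Scheme.Modules.pullback a).obj G ⟶
      (Scheme.Modules.pushforward q).obj ((Scheme.Modules.pullback b).obj G) :=
  ((Scheme.Modules.pullbackPushforwardAdjunction a).homEquiv _ _).symm
    ((Scheme.Modules.pullbackPushforwardAdjunction b).unit.app G ≫
      (Scheme.Modules.pushforwardCongr h.symm).hom.app _ ≫
        (Scheme.Modules.pushforwardComp q a).inv.app _)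

theorem transUnit_pullSec (a : Y ⟶ X) (b : Z ⟶ X) (q : Z ⟶ Y) (h : q ≫ a = b) {U : X.Opens}
    (m : Γ(G, U)) :
    (transUnit G a b q h).app (a ⁻¹ᵁ U) (pullSec a G m) =
      res ((Scheme.Modules.pullback b).obj G) (V := q ⁻¹ᵁ (a ⁻¹ᵁ U)) (preimage_eq h U).ge
        (pullSec b G m) := by
  have h1 : (Scheme.Modules.pullbackPushforwardAdjunction a).unit.app G ≫
      (Scheme.Modules.pushforward a).map (transUnit G a b q h) =
      (Scheme.Modules.pullbackPushforwardAdjunction b).unit.app G ≫
      (Scheme.Modules.pushforwardCongr h.symm).hom.app _ ≫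
        (Scheme.Modules.pushforwardComp q a).inv.app _ :=
    ((Scheme.Modules.pullbackPushforwardAdjunction a).homEquiv_unit (f := transUnit G a b q h)).symm.trans
      (Equiv.apply_symm_apply _ _)
  exact congr(($h1).app U m)

theorem transUnit_comp {a : Y ⟶ X} {b : Z ⟶ X} {c : W ⟶ X} {q : Z ⟶ Y} {r : W ⟶ Z}
    (h : q ≫ a = b) (h' : r ≫ b = c) (h'' : (r ≫ q) ≫ a = c) :
    transUnit G a b q h ≫ (Scheme.Modules.pushforward q).map (transUnit G b c r h') ≫
        (Scheme.Modules.pushforwardComp r q).hom.app _ =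
      transUnit G a c (r ≫ q) h'' := by
  refine pullback_hom_ext a fun U m => ?_
  change (transUnit G b c r h').app (q ⁻¹ᵁ (a ⁻¹ᵁ U))
    ((transUnit G a b q h).app (a ⁻¹ᵁ U) (pullSec a G m)) = _
  rw [transUnit_pullSec, transUnit_pullSec, app_res, transUnit_pullSec]
  exact res_res _ _ _

/-- The map `a_*a^*G ⟶ b_*b^*G` for a morphism over `X`. -/
def pushPullMap {a : Y ⟶ X} {b : Z ⟶ X} (q : Z ⟶ Y) (h : q ≫ a = b) :
    (Scheme.Modules.pushforward a).obj ((Scheme.Modules.pullback a).obj G) ⟶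
      (Scheme.Modules.pushforward b).obj ((Scheme.Modules.pullback b).obj G) :=
  (Scheme.Modules.pushforward a).map (transUnit G a b q h) ≫
    (Scheme.Modules.pushforwardComp q a).hom.app _ ≫
      (Scheme.Modules.pushforwardCongr h).hom.app _

theorem pushPullMap_app {a : Y ⟶ X} {b : Z ⟶ X} (q : Z ⟶ Y) (h : q ≫ a = b) {U : X.Opens}
    (s : Γ((Scheme.Modules.pullback a).obj G, a ⁻¹ᵁ U)) :
    (pushPullMap G q h).app U s =
      res ((Scheme.Modules.pullback b).obj G) (preimage_eq h U).le
        ((transUnit G a b q h).app (a ⁻¹ᵁ U) s) :=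
  rfl

theorem unit_pushPullMap {a : Y ⟶ X} {b : Z ⟶ X} (q : Z ⟶ Y) (h : q ≫ a = b) :
    (Scheme.Modules.pullbackPushforwardAdjunction a).unit.app G ≫ pushPullMap G q h =
      (Scheme.Modules.pullbackPushforwardAdjunction b).unit.app G := by
  ext U m
  change (pushPullMap G q h).app U (pullSec a G m) = pullSec b G m
  rw [pushPullMap_app, transUnit_pullSec]
  exact (res_res _ _ _).trans (res_self _ _)

theorem transUnit_id (a : Y ⟶ X) :
    transUnit G a a (𝟙 Y) (Category.id_comp a) =
      (Scheme.Modules.pushforwardId Y).inv.app _ := by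
  refine pullback_hom_ext a fun U m => ?_
  rw [transUnit_pullSec]
  exact res_self (M := (Scheme.Modules.pullback a).obj G) _ _

theorem pushPullMap_id (a : Y ⟶ X) :
    pushPullMap G (𝟙 Y) (Category.id_comp a) = 𝟙 _ := by
  ext U s
  change (pushPullMap G (𝟙 Y) (Category.id_comp a)).app U s = s
  rw [pushPullMap_app, transUnit_id]
  exact res_self (M := (Scheme.Modules.pullback a).obj G) _ _

theorem pushPullMap_comp {a : Y ⟶ X} {b : Z ⟶ X} {c : W ⟶ X} (q : Z ⟶ Y) (r : W ⟶ Z)
    (h : q ≫ a = b) (h' : r ≫ b = c) (h'' : (r ≫ q) ≫ a = c) :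
    pushPullMap G q h ≫ pushPullMap G r h' = pushPullMap G (r ≫ q) h'' := by
  ext U s
  change (pushPullMap G r h').app U ((pushPullMap G q h).app U s) = _
  rw [pushPullMap_app, pushPullMap_app, pushPullMap_app, app_res,
    ← transUnit_comp G h h' h'']
  exact res_res _ _ _

/-- `a ↦ a_* a^* G`. -/
def pushPull : (Over X)ᵒᵖ ⥤ X.Modules where
  obj a := (Scheme.Modules.pushforward a.unop.hom).obj ((Scheme.Modules.pullback a.unop.hom).obj G)
  map f := pushPullMap G f.unop.left (Over.w f.unop)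
  map_id a := pushPullMap_id G a.unop.hom
  map_comp f g := (pushPullMap_comp G f.unop.left g.unop.left _ _ _).symm

end Groth.LimitMod
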