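import Mathlib

/-!
# Vanishing of `1 ⊗ g` as finitely many equations
-/

universe u

open TensorProduct

namespace Groth.LimitMod

variable {R : Type u} [CommRing R] {M : Type u} [AddCommGroup M] [Module R M]

/-- If `1 ⊗ g = 0` in `B ⊗ M` then `g` is a `B`-combination of relations of `M`. -/
theorem exists_relations {B : Type u} [CommRing B] [Algebra R B] {g : M}
    (h : (1 : B) ⊗ₜ[R] g = 0) :
    ∃ (n : ℕ) (b : Fin n → B) (r : Fin n → M →₀ R),
      (∀ k, Finsupp.linearCombination R id (r k) = 0) ∧
        ∀ m, algebraMap R B (Finsupp.single g 1 m) = ∑ k, b k * algebraMap R B (r k m) := by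
  classical
  let π : (M →₀ R) →ₗ[R] M := Finsupp.linearCombination R id
  have hπ : Function.Surjective π :=
    Finsupp.linearCombination_surjective _ Function.surjective_id
  obtain ⟨K, hK₁, hK₂, κ, hex⟩ : ∃ (K : Type u) (_ : AddCommGroup K) (_ : Module R K)
      (κ : K →ₗ[R] (M →₀ R)), Function.Exact κ π :=
    ⟨LinearMap.ker π, inferInstance, inferInstance, (LinearMap.ker π).subtype,
      fun y => LinearMap.exact_subtype_ker_map π y⟩
  have hx : π.lTensor B ((1 : B) ⊗ₜ Finsupp.single g 1) = 0 := by simpa [π] using h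
  obtain ⟨u, hu⟩ := (lTensor_exact (Q := B) (f := κ) (g := π) hex hπ _).mp hx
  obtain ⟨S, hS⟩ := TensorProduct.exists_finset u
  let e := S.equivFin.symm
  refine ⟨S.card, fun k => (e k).1.1, fun k => κ (e k).1.2,
    fun k => hex.apply_apply_eq_zero _, fun m => ?_⟩
  have key : ∀ (b : B) (x : M →₀ R),
      finsuppScalarRight R R B M (b ⊗ₜ x) m = b * algebraMap R B (x m) := fun b x => by
    rw [finsuppScalarRight_apply_tmul_apply, Algebra.smul_def, mul_comm]
  have := congrArg (fun z => finsuppScalarRight R R B M z m) hu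
  simp only [hS, map_sum, LinearMap.lTensor_tmul, Finsupp.finsetSum_apply, key, one_mul] at this
  rw [← this, ← Finset.sum_coe_sort]
  exact (Equiv.sum_comp e (fun q => (q : B × K).1 *
    algebraMap R B (κ (q : B × K).2 m))).symm

/-- Conversely, such equations force `1 ⊗ g = 0`. -/
theorem tmul_eq_zero_of_relations {C : Type u} [CommRing C] [Algebra R C] {g : M} {n : ℕ}
    (b : Fin n → C) (r : Fin n → M →₀ R) (hr : ∀ k, Finsupp.linearCombination R id (r k) = 0)
    (h : ∀ m, algebraMap R C (Finsupp.single g 1 m) = ∑ k, b k * algebraMap R C (r k m)) :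
    (1 : C) ⊗ₜ[R] g = 0 := by
  classical
  let Φ : C ⊗[R] (M →₀ R) →ₗ[R] C ⊗[R] M := (Finsupp.linearCombination R id).lTensor C
  have e : (1 : C) ⊗ₜ[R] Finsupp.single g (1 : R) = ∑ k, b k ⊗ₜ r k := by
    refine (finsuppScalarRight R R C M).injective (Finsupp.ext fun m => ?_)
    have key : ∀ (c : C) (x : M →₀ R),
        finsuppScalarRight R R C M (c ⊗ₜ x) m = c * algebraMap R C (x m) := fun c x => by
      rw [finsuppScalarRight_apply_tmul_apply, Algebra.smul_def, mul_comm]
    simp only [map_sum, Finsupp.finsetSum_apply, key, one_mul, h m]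
  have := congrArg Φ e
  simpa [Φ, hr, map_sum] using this

end Groth.LimitMod
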