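import Groth.Agent.PicAux.LimitInv
import Groth.Agent.QCohMod.PullbackSections
import Groth.Agent.LimitMod.PushPull
import Groth.Agent.LimitMod.Relations

/-!
# Sections of an inverse image to a limit over an affine open of a stage
-/

universe u

open CategoryTheory Limits AlgebraicGeometry Opposite TopologicalSpace TensorProduct

noncomputable section

set_option backward.isDefEq.respectTransparency.types false

namespace Groth.LimitMod

open Groth.PicAux Groth.PicAux.LimitInv

variable {I : Type u} [Category.{u} I] (D : I ⥤ Scheme.{u}) (c : Cone D)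

omit c in
theorem trans_trans {i m m' m'' : I} (φ : m' ⟶ m) (ψ : m'' ⟶ m') (h : m ⟶ i) (h' : m' ⟶ i)
    (h'' : m'' ⟶ i) (e : φ ≫ h = h') (e' : ψ ≫ h' = h'') (V : (D.obj i).Opens)
    (s : Γ(D.obj m, pre D h V)) :
    LimitInv.trans D ψ h' h'' e' V (LimitInv.trans D φ h h' e V s) =
      LimitInv.trans D (ψ ≫ φ) h h'' (by rw [Category.assoc, e, e']) V s := by
  simp only [LimitInv.trans]
  rw [← CommRingCat.comp_apply, Scheme.Hom.appLE_comp_appLE]
  congr 2
  simp

theorem toLim_app {i m : I} (h : m ⟶ i) (V : (D.obj i).Opens) (x : Γ(D.obj i, V)) :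
    toLim D c h V ((D.map h).app V x) = (c.π.app i).app V x := by
  simp only [toLim, Scheme.Hom.app_eq_appLE]
  rw [← CommRingCat.comp_apply, Scheme.Hom.appLE_comp_appLE]
  congr 2
  simp

omit c in
theorem trans_app {i m m' : I} (φ : m' ⟶ m) (h : m ⟶ i) (h' : m' ⟶ i) (e : φ ≫ h = h')
    (V : (D.obj i).Opens) (x : Γ(D.obj i, V)) :
    LimitInv.trans D φ h h' e V ((D.map h).app V x) = (D.map h').app V x := by
  simp only [LimitInv.trans, Scheme.Hom.app_eq_appLE]
  rw [← CommRingCat.comp_apply, Scheme.Hom.appLE_comp_appLE]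
  congr 2
  simp [← e]

omit c in
theorem trans_congr {i m m' : I} {φ φ' : m' ⟶ m} (hφ : φ = φ') {h : m ⟶ i} {h' : m' ⟶ i}
    {e : φ ≫ h = h'} {V : (D.obj i).Opens} :
    LimitInv.trans D φ h h' e V = LimitInv.trans D φ' h h' (hφ ▸ e) V := by
  subst hφ; rfl

variable [IsCofiltered I] [∀ (i j : I) (f : i ⟶ j), IsAffineHom (D.map f)] (hc : IsLimit c)

set_option backward.defeqAttrib.useBackward true in
set_option backward.isDefEq.respectTransparency false in
open Scheme.Opens in
include hc in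
/-- Sections over the preimage of an affine open come from a stage. -/
theorem exists_toLim_eq_affine {i : I} {V : (D.obj i).Opens} (hV : IsAffineOpen V)
    (s : Γ(c.pt, lim D c V)) :
    ∃ (j : I) (h : j ⟶ i) (t : Γ(D.obj j, pre D h V)), toLim D c h V t = s := by
  have : ∀ {i j : I} (f : i ⟶ j), IsAffineHom (D.map f) := fun {i j} f => inferInstance
  have hc' (j : Over i) : CompactSpace ((opensDiagram D i V).obj j) :=
    isCompact_iff_compactSpace.mp (hV.preimage (D.map j.hom)).isCompact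
  have hq (j : Over i) : QuasiSeparatedSpace ((opensDiagram D i V).obj j) :=
    have : IsAffine ((D.map j.hom ⁻¹ᵁ V : (D.obj j.left).Opens) : Scheme.{u}) :=
      hV.preimage (D.map j.hom)
    inferInstanceAs (QuasiSeparatedSpace ((D.map j.hom ⁻¹ᵁ V : (D.obj j.left).Opens) : Scheme.{u}))
  obtain ⟨j, t, ht⟩ := exists_appTop_π_eq_of_isLimit _ _
    (isLimitOpensCone D c hc i V) ((lim D c V).topIso.inv s)
  obtain ⟨t, rfl⟩ := (D.map j.hom ⁻¹ᵁ V).topIso.symm.commRingCatIsoToRingEquiv.surjective t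
  refine ⟨j.left, j.hom, t, ?_⟩
  rw [toLim, eq_comm]
  convert!
    show s = ((topIso _).inv ≫ ((opensCone D c i V).π.app j).appTop ≫ (topIso _).hom) t from
      (lim D c V).topIso.commRingCatIsoToRingEquiv.symm_apply_eq.mp ht using 3
  simp [Scheme.Hom.app_eq_appLE, Scheme.Hom.resLE_appLE]

include hc in
/-- Finitely many equations in the limit hold at a later stage. -/
theorem exists_trans_eq_finset {i m : I} (h : m ⟶ i) {V : (D.obj i).Opens}
    (hV : IsCompact (V : Set (D.obj i))) {α : Type*} (S : Finset α)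
    (x y : α → Γ(D.obj m, pre D h V))
    (hst : ∀ a ∈ S, toLim D c h V (x a) = toLim D c h V (y a)) :
    ∃ (m' : I) (φ : m' ⟶ m), ∀ a ∈ S,
      LimitInv.trans D φ h (φ ≫ h) rfl V (x a) = LimitInv.trans D φ h (φ ≫ h) rfl V (y a) := by
  classical
  have : ∀ {i j : I} (f : i ⟶ j), IsAffineHom (D.map f) := fun {i j} f => inferInstance
  induction S using Finset.induction_on with
  | empty => exact ⟨m, 𝟙 m, by simp⟩
  | insert a S _ ih =>
    obtain ⟨m₁, φ₁, h₁⟩ := ih fun b hb => hst b (Finset.mem_insert_of_mem hb)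
    obtain ⟨m₂, φ₂, h₂⟩ := exists_trans_eq D c hc h hV (x a) (y a)
      (hst a (Finset.mem_insert_self a S))
    let k := IsCofiltered.min m₁ m₂
    obtain ⟨l, e, he⟩ : ∃ (l : I) (e : l ⟶ k),
        e ≫ (IsCofiltered.minToLeft m₁ m₂ ≫ φ₁) = e ≫ (IsCofiltered.minToRight m₁ m₂ ≫ φ₂) :=
      ⟨_, IsCofiltered.eqHom _ _, IsCofiltered.eq_condition _ _⟩
    refine ⟨l, (e ≫ IsCofiltered.minToLeft m₁ m₂) ≫ φ₁, fun b hb => ?_⟩
    rcases Finset.mem_insert.mp hb with rfl | hb
    · have hh := congrArg (LimitInv.trans D (e ≫ IsCofiltered.minToRight m₁ m₂) (φ₂ ≫ h)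
        (((e ≫ IsCofiltered.minToLeft m₁ m₂) ≫ φ₁) ≫ h)
        (by simp [Category.assoc] at he ⊢; rw [← reassoc_of% he]) V) h₂
      rw [trans_trans, trans_trans] at hh
      rw [trans_congr D (show ((e ≫ IsCofiltered.minToLeft m₁ m₂) ≫ φ₁) =
        (e ≫ IsCofiltered.minToRight m₁ m₂) ≫ φ₂ by simpa [Category.assoc] using he)]
      exact hh
    · have hh := congrArg (LimitInv.trans D (e ≫ IsCofiltered.minToLeft m₁ m₂) (φ₁ ≫ h)
        (((e ≫ IsCofiltered.minToLeft m₁ m₂) ≫ φ₁) ≫ h) (Category.assoc _ _ _).symm V)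
        (h₁ b hb)
      rwa [trans_trans, trans_trans] at hh

include hc in
/-- A section over an affine open killed in the limit is killed at a stage. -/
theorem exists_pullSec_eq_zero {i : I} (G : (D.obj i).Modules) [G.IsQuasicoherent]
    {A : (D.obj i).Opens} (hA : IsAffineOpen A) (g : Γ(G, A))
    (hg : pullSec (c.π.app i) G g = 0) :
    ∃ (j : I) (h : j ⟶ i), pullSec (D.map h) G g = 0 := by
  classical
  have : ∀ {i j : I} (f : i ⟶ j), IsAffineHom (D.map f) := fun {i j} f => inferInstance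
  have := isAffineHom_π_app _ _ hc i
  have hV : IsAffineOpen (lim D c A) := hA.preimage _
  let _ : Algebra Γ(D.obj i, A) Γ(c.pt, lim D c A) :=
    Groth.QCohMod.sectionsAlg (c.π.app i) (le_refl (lim D c A))
  have h1 : (1 : Γ(c.pt, lim D c A)) ⊗ₜ[Γ(D.obj i, A)] g = 0 := by
    refine (Groth.QCohMod.pullSecTensor_bijective (c.π.app i) G le_rfl hA hV).1 ?_
    rw [Groth.QCohMod.pullSecTensor_tmul, map_zero, hg, one_smul]
    exact map_zero _
  obtain ⟨n, b, r, hr, heq⟩ := exists_relations h1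
  choose j₁ f₁ t₁ ht₁ using fun k => exists_toLim_eq_affine D c hc hA (b k)
  obtain ⟨m, p, q, hq⟩ := exists_common j₁ f₁
  let β : Fin n → Γ(D.obj m, pre D p A) := fun k => LimitInv.trans D (q k) (f₁ k) p (hq k) A (t₁ k)
  have hβ : ∀ k, toLim D c p A (β k) = b k := fun k => (toLim_trans D c _ _ _ _ _ _).trans (ht₁ k)
  let S := (Finsupp.single g (1 : Γ(D.obj i, A))).support ∪
    Finset.univ.biUnion fun k => (r k).support
  have hap : ∀ x : Γ(D.obj i, A), toLim D c p A ((D.map p).app A x) = (c.π.app i).app A x :=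
    fun x => toLim_app D c p A x
  obtain ⟨j, φ, hφ⟩ := exists_trans_eq_finset D c hc p hA.isCompact S
    (fun a => (D.map p).app A (Finsupp.single g (1 : Γ(D.obj i, A)) a))
    (fun a => ∑ k, β k * (D.map p).app A (r k a)) fun a _ => by
      simp only [map_sum, map_mul, hap, hβ]
      simpa [RingHom.algebraMap_toAlgebra, Scheme.Hom.appLE_eq_app] using heq a
  refine ⟨j, φ ≫ p, ?_⟩
  let _ : Algebra Γ(D.obj i, A) Γ(D.obj j, pre D (φ ≫ p) A) :=
    Groth.QCohMod.sectionsAlg (D.map (φ ≫ p)) (le_refl (pre D (φ ≫ p) A))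
  have h2 : (1 : Γ(D.obj j, pre D (φ ≫ p) A)) ⊗ₜ[Γ(D.obj i, A)] g = 0 := by
    refine tmul_eq_zero_of_relations (fun k => LimitInv.trans D φ p (φ ≫ p) rfl A (β k)) r hr fun a => ?_
    simp only [RingHom.algebraMap_toAlgebra, Scheme.Hom.appLE_eq_app]
    by_cases ha : a ∈ S
    · simpa [map_sum, map_mul, trans_app] using hφ a ha
    · simp only [S, Finset.mem_union, Finset.mem_biUnion, Finset.mem_univ, true_and, not_or,
        not_exists, Finsupp.notMem_support_iff] at ha
      simp [ha.1, ha.2]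
  have h3 := congrArg (Groth.QCohMod.pullSecTensor (D.map (φ ≫ p)) G le_rfl) h2
  rwa [Groth.QCohMod.pullSecTensor_tmul, map_zero, one_smul, Groth.QCohMod.res_self] at h3

end Groth.LimitMod
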