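import Groth.Agent.LimitMod.FibreFunctions
import Groth.Agent.Inter.Chi
import Groth.Agent.VarietyBC.InterPoly
import Groth.Agent.FlatStrata.Model
import Groth.Agent.FlatTwist.Relative
import Groth.Agent.PicAux.PullTensor
import Groth.Agent.FibreDim.Semicontinuity
import Groth.Agent.Variety2.DimScheme
import Groth.Agent.Pi1FPDesc.Basic
import Mathlib.Combinatorics.Nullstellensatz

/-!
# Intersection numbers and Snapper polynomials in proper flat families
-/

universe u

open CategoryTheory Limits AlgebraicGeometry Opposite TopologicalSpace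

noncomputable section

set_option backward.isDefEq.respectTransparency.types false

namespace Groth.LimitMod

variable {X S : Scheme.{u}} (f : X ⟶ S)

/-- The Euler characteristic of the restriction to a fibre. -/
def fibEuler (G : X.Modules) (s : S) : ℤ :=
  letI : (f.fiber s).Over (Spec (CommRingCat.of (S.residueField s))) := ⟨f.fiberToSpecResidueField s⟩
  Curv2.euler (S.residueField s) (f.fiber s) ((Scheme.Modules.pullback (f.fiberι s)).obj G)

theorem isLocallyConstant_fibEuler [IsProper f] [LocallyOfFinitePresentation f] (G : X.Modules)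
    (hG : CohB1.IsFP G) (hfl : FlatMod.IsFlatOver f G) : IsLocallyConstant (fibEuler f G) :=
  isLocallyConstant_eulerChar f G hG hfl

/-- Twisting by an invertible module preserves finite presentation and flatness. -/
theorem fp_flat_twist {F N : X.Modules} (hN : PicF.IsInvertible N) (hF : CohB1.IsFP F)
    (hfl : FlatMod.IsFlatOver f F) :
    CohB1.IsFP (CohB1.tensorMod N F) ∧ FlatMod.IsFlatOver f (CohB1.tensorMod N F) := by
  have : F.IsQuasicoherent := by
    have := hF
    infer_instance
  obtain ⟨e⟩ := Groth.Inter.tensor_comm F N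
  exact ⟨Groth.Pi1FPDesc.isFP_of_iso e (Groth.FlatStrata.isFP_tensorMod_of_isInvertible hF hN),
    fun x => (Groth.FlatMorOne.isFlatOverAt_congr f e x).1
      (Groth.FlatTwist.isFlatOver_tensorMod hN hfl x)⟩

/-- Intersection numbers of invertible modules against a flat family are locally constant. -/
theorem isLocallyConstant_intNum [IsProper f] [LocallyOfFinitePresentation f] (d : ℕ)
    (hd : ∀ s : S, topologicalKrullDim ↥(f.fiber s) ≤ d) {r : ℕ} (M : Fin r → X.Modules)
    (hM : ∀ i, PicF.IsInvertible (M i)) (F : X.Modules) (hF : CohB1.IsFP F)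
    (hfl : FlatMod.IsFlatOver f F) (F' : ∀ s : S, (f.fiber s).Modules)
    (eF : ∀ s, (Scheme.Modules.pullback (f.fiberι s)).obj F ≅ F' s) :
    IsLocallyConstant (fun s : S => @FGA.intNum (S.residueField s) _ (f.fiber s)
      ⟨f.fiberToSpecResidueField s⟩ d r (fun i => (Scheme.Modules.pullback (f.fiberι s)).obj (M i))
      (F' s)) := by
  classical
  let N : Finset (Fin r) → X.Modules := fun I => FGA.tensorList ((I.sort (· ≤ ·)).map M)
  have hN : ∀ I, PicF.IsInvertible (N I) := fun I => Groth.Inter.isInvertible_tensorList fun L hL => by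
    obtain ⟨i, -, rfl⟩ := List.mem_map.1 hL
    exact hM i
  have hterm : ∀ (s : S) (I : Finset (Fin r)),
      @FGA.eulerCharLE (S.residueField s) _ (f.fiber s) ⟨f.fiberToSpecResidueField s⟩
        (CohB1.tensorMod (FGA.tensorList
          ((I.sort (· ≤ ·)).map fun i => (Scheme.Modules.pullback (f.fiberι s)).obj (M i))) (F' s)) d =
        fibEuler f (CohB1.tensorMod (N I) F) s := by
    intro s I
    let : (f.fiber s).Over (Spec (CommRingCat.of (S.residueField s))) :=
      ⟨f.fiberToSpecResidueField s⟩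
    have : IsProper (f.fiber s ↘ Spec (CommRingCat.of (S.residueField s))) :=
      MorphismProperty.of_isPullback (IsPullback.of_hasPullback f (S.fromSpecResidueField s))
        ‹IsProper f›
    have hpb : ∀ l : List X.Modules, Nonempty
        ((Scheme.Modules.pullback (f.fiberι s)).obj (FGA.tensorList l) ≅
          FGA.tensorList (l.map fun L => (Scheme.Modules.pullback (f.fiberι s)).obj L)) := by
      intro l
      induction l with
      | nil => exact Groth.PicAux.pullback_structure_iso (f.fiberι s)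
      | cons a l ih =>
        exact ⟨(Groth.PicAux.exists_pullback_tensorMod (f.fiberι s) a _).choose ≪≫
          (Groth.Inter.tensor_congr ⟨Iso.refl _⟩ ih).some⟩
    obtain ⟨e⟩ := hpb ((I.sort (· ≤ ·)).map M)
    rw [List.map_map] at e
    rw [Groth.Inter.eulerCharLE_eq (k := S.residueField s) (hd s)]
    exact Groth.EulerDeg.euler_congr _ ((Groth.Inter.tensor_congr ⟨e.symm⟩ ⟨(eF s).symm⟩).some ≪≫
      (Groth.PicAux.exists_pullback_tensorMod (f.fiberι s) (N I) F).choose.symm)
  have hI : ∀ I, IsLocallyConstant (fibEuler f (CohB1.tensorMod (N I) F)) := fun I =>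
    isLocallyConstant_fibEuler f _ (fp_flat_twist f (hN I) hF hfl).1 (fp_flat_twist f (hN I) hF hfl).2
  rw [IsLocallyConstant.iff_eventually_eq]
  intro s₀
  filter_upwards [Filter.eventually_all.2 fun I => (hI I).eventually_eq s₀] with s hs
  refine Finset.sum_congr rfl fun I _ => ?_
  rw [hterm, hterm, hs I]

/-- A bound for the dimensions of the fibres over an affine open. -/
theorem exists_dim_bound [LocallyOfFiniteType f] [QuasiCompact f] {V : S.Opens} (hV : IsAffineOpen V) :
    ∃ n : ℕ, ∀ s ∈ V, topologicalKrullDim ↥(f.fiber s) ≤ n := by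
  have hc : IsCompact ((f ⁻¹ᵁ V : X.Opens) : Set X) := f.isCompact_preimage hV.isCompact
  have hloc : ∀ x : (f ⁻¹ᵁ V : X.Opens), ∃ W : X.Opens, x.1 ∈ W ∧ ∃ n : ℕ,
      ∀ (y : S) (z : f.fiber y), (f.fiberι y).base z ∈ W → Order.height z ≤ (n : ℕ∞) := fun x => by
    obtain ⟨W, hW, hxW, hWV⟩ := exists_isAffineOpen_mem_and_subset (U := f ⁻¹ᵁ V) (x := x.1) x.2
    exact ⟨W, hxW, Groth.FibreDim.exists_height_bound_of_affine f hV hW hWV⟩
  choose W hxW n hn using hloc
  obtain ⟨t, ht⟩ := hc.elim_finite_subcover (fun x => (W x : Set X)) (fun x => (W x).isOpen)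
    fun x hx => Set.mem_iUnion.2 ⟨⟨x, hx⟩, hxW ⟨x, hx⟩⟩
  refine ⟨t.sup n, fun s hs => ?_⟩
  rw [Groth.Variety2.Dim.dim_eq_iSup_height]
  refine iSup_le fun z => WithBot.coe_le_coe.2 ?_
  have hz : (f.fiberι s).base z ∈ (f ⁻¹ᵁ V : X.Opens) := by
    have h1 : f ((f.fiberι s).base z) ∈ Set.singleton s := by
      have h2 := congr($((IsPullback.of_hasPullback f (S.fromSpecResidueField s)).w) z)
      simp only at h2
      exact h2.trans (Scheme.fromSpecResidueField_apply s _)
    show f ((f.fiberι s).base z) ∈ V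
    rwa [show f ((f.fiberι s).base z) = s from h1]
  obtain ⟨x, hx, hzx⟩ := Set.mem_iUnion₂.1 (ht hz)
  exact (hn x s z hzx).trans (Nat.cast_le.2 (Finset.le_sup hx))

/-- A polynomial vanishing on a grid larger than its degree is zero. -/
theorem eq_of_eval_grid {t d : ℕ} {P Q : MvPolynomial (Fin t) ℚ} (hP : P.totalDegree ≤ d)
    (hQ : Q.totalDegree ≤ d)
    (h : ∀ m : Fin t → Fin (d + 1),
      MvPolynomial.eval (fun i => ((m i : ℕ) : ℚ)) P = MvPolynomial.eval (fun i => ((m i : ℕ) : ℚ)) Q) :
    P = Q := by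
  classical
  refine sub_eq_zero.1 (MvPolynomial.eq_zero_of_eval_zero_at_prod_finset _
    (fun _ => (Finset.range (d + 1)).image (Nat.cast : ℕ → ℚ)) (fun i => ?_) fun x hx => ?_)
  · rw [Finset.card_image_of_injective _ Nat.cast_injective, Finset.card_range]
    exact Nat.lt_succ_of_le ((MvPolynomial.degreeOf_le_totalDegree _ i).trans
      ((MvPolynomial.totalDegree_sub _ _).trans (max_le hP hQ)))
  · choose m hm hmx using fun i => Finset.mem_image.1 (hx i)
    have := h fun i => ⟨m i, Finset.mem_range.1 (hm i)⟩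
    simp only [hmx] at this
    rw [map_sub, this, sub_self]

variable {f}

theorem nonempty_pullback_tensorPows {Z : Scheme.{u}} (g : Z ⟶ X) (F : X.Modules) :
    ∀ (r : ℕ) (L : Fin r → X.Modules) (n : Fin r → ℕ),
      Nonempty ((Scheme.Modules.pullback g).obj (Curv2.tensorPows F r L n) ≅
        Curv2.tensorPows ((Scheme.Modules.pullback g).obj F) r
          (fun i => (Scheme.Modules.pullback g).obj (L i)) n)
  | 0, _, _ => ⟨Iso.refl _⟩
  | r + 1, L, n => by
    obtain ⟨e⟩ := nonempty_pullback_tensorPows g F r (fun i => L i.castSucc) fun i => n i.castSucc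
    exact ⟨(Groth.PicAux.exists_pullback_tensorMod g _ _).choose ≪≫
      (Groth.Inter.tensor_congr ⟨e⟩ (Groth.PicAux.pullback_tensorPow g (L (Fin.last r)) (n (Fin.last r)))).some⟩

/-- The Snapper polynomials of the fibres are locally constant. -/
theorem exists_snapper_const [IsProper f] [LocallyOfFinitePresentation f] (F : X.Modules)
    (hF : CohB1.IsFP F) (hfl : FlatMod.IsFlatOver f F) (t : ℕ) (L : Fin t → X.Modules)
    (hL : ∀ i, PicF.IsInvertible (L i)) (s₀ : S) :
    ∃ U : S.Opens, s₀ ∈ U ∧ ∀ s ∈ U, ∀ n : Fin t → ℕ,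
      fibEuler f (Curv2.tensorPows F t L n) s = fibEuler f (Curv2.tensorPows F t L n) s₀ := by
  classical
  have : F.IsQuasicoherent := by
    have := hF
    infer_instance
  obtain ⟨V, hV, hs₀, -⟩ :=
    exists_isAffineOpen_mem_and_subset (x := s₀) (U := (⊤ : S.Opens)) trivial
  obtain ⟨d, hd⟩ := exists_dim_bound f hV
  have hP : ∀ s ∈ V, ∃ P : MvPolynomial (Fin t) ℚ, P.totalDegree ≤ d ∧ ∀ n : Fin t → ℕ,
      (fibEuler f (Curv2.tensorPows F t L n) s : ℚ) = MvPolynomial.eval (fun i => (n i : ℚ)) P := by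
    intro s hs
    let : (f.fiber s).Over (Spec (CommRingCat.of (S.residueField s))) :=
      ⟨f.fiberToSpecResidueField s⟩
    have : IsProper (f.fiber s ↘ Spec (CommRingCat.of (S.residueField s))) :=
      MorphismProperty.of_isPullback (IsPullback.of_hasPullback f (S.fromSpecResidueField s))
        ‹IsProper f›
    have hFc : Coh.IsCoh ((Scheme.Modules.pullback (f.fiberι s)).obj F) :=
      ⟨Groth.QCohMod.isQCoh_pullback_obj _ F,
        Groth.QCohMod.isFT_pullback _ F (Groth.PropsBasic.LocFree.isFT_of_isFP F hF)⟩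
    obtain ⟨P, hP, hPe⟩ := Groth.VarietyBC.InterPoly.exists_eulerPoly (k := S.residueField s)
      (fun i => (Scheme.Modules.pullback (f.fiberι s)).obj (L i))
      (fun i => Groth.PicAux.isInvertible_pullback (f.fiberι s) (hL i)) hFc d
      ((Groth.SpectralTopology.dim_le_of_subset (Set.subset_univ _)).trans
        ((Homeomorph.Set.univ _).isHomeomorph.topologicalKrullDim_eq.le.trans (hd s hs)))
    refine ⟨P, hP, fun n => (congrArg _ ?_).trans (hPe n)⟩
    exact Groth.EulerDeg.euler_congr _ (nonempty_pullback_tensorPows (f.fiberι s) F t L n).some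
  have hgrid : ∀ m : Fin t → Fin (d + 1),
      IsLocallyConstant (fibEuler f (Curv2.tensorPows F t L fun i => (m i : ℕ))) := fun m => by
    obtain ⟨e⟩ := Groth.VarietyBC.InterPoly.tensorPows_iso t L (fun i => (m i : ℕ)) F
    have h := fp_flat_twist f (Groth.Inter.isInvertible_multiTwist hL fun i => (m i : ℕ)) hF hfl
    exact isLocallyConstant_fibEuler f _ (Groth.Pi1FPDesc.isFP_of_iso e.symm h.1)
      fun x => (Groth.FlatMorOne.isFlatOverAt_congr f e x).2 (h.2 x)
  have hev : ∀ᶠ s in nhds s₀, s ∈ V ∧ ∀ m : Fin t → Fin (d + 1),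
      fibEuler f (Curv2.tensorPows F t L fun i => (m i : ℕ)) s =
        fibEuler f (Curv2.tensorPows F t L fun i => (m i : ℕ)) s₀ :=
    (V.isOpen.eventually_mem hs₀).and (Filter.eventually_all.2 fun m => (hgrid m).eventually_eq s₀)
  obtain ⟨U, hU, hUo, hsU⟩ := eventually_nhds_iff.1 hev
  refine ⟨⟨U, hUo⟩, hsU, fun s hs n => ?_⟩
  obtain ⟨P, hP₁, hP₂⟩ := hP s (hU s hs).1
  obtain ⟨Q, hQ₁, hQ₂⟩ := hP s₀ hs₀
  have : P = Q := eq_of_eval_grid hP₁ hQ₁ fun m => by
    rw [← hP₂, ← hQ₂, (hU s hs).2 m]
  have h := hP₂ n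
  rw [this, ← hQ₂ n] at h
  exact_mod_cast h

end Groth.LimitMod
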